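import Mathlib
import Cfsg.Agent.Lib.Core.MinNormal
import Cfsg.Agent.Lib.PLocal.Thompson
import Cfsg.Agent.Lib.Transfer.NormalComplement
import Cfsg.Agent.Lib.Frob.Nilpotent
import Cfsg.Agent.Lib.Frob.Quaternion

/-! Kegel's theorem (splitting automorphisms of prime order): if `K ⊴ G`, `y ∈ G` and
`(k y) ^ p = 1` for all `k ∈ K` then `K` is nilpotent.  Thompson's normal `q`-complement
theorem enters as the hypothesis `ThompsonNPC`. -/

set_option autoImplicit false
open Cfsg Subgroup

namespace CfsgLib.Fgs

universe u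

/-- The (nontrivial half of the) normal `q`-complement theorem of Thompson. -/
def ThompsonNPC : Prop :=
  ∀ (G : Type u) [Group G] [Finite G] (q : ℕ) [Fact q.Prime], q ≠ 2 → ∀ P : Sylow q G,
    HasNormalPComplement q (normalizer (thompsonSubgroupOf q (P : Subgroup G) : Set G)) →
    HasNormalPComplement q
      (centralizer (((P : Subgroup G) ⊓ centralizer (P : Set G)) : Set G)) →
    HasNormalPComplement q G

variable {G : Type*} [Group G]

open scoped IsMulCommutative in
theorem kegel_mul_pow (V : Subgroup G) [V.Normal] [IsMulCommutative V] (v : V) (g : G) (n : ℕ) :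
    ((v : G) * g) ^ n =
      ((∏ i ∈ Finset.range n, MulAut.conjNormal (g ^ i) v : V) : G) * g ^ n := by
  induction n with
  | zero => simp
  | succ n ih =>
    rw [pow_succ, ih, Finset.prod_range_succ, Subgroup.coe_mul, MulAut.conjNormal_apply, pow_succ]
    group

open scoped IsMulCommutative in
/-- Key lemma: a subgroup `R` normalised by `y` centralises a coprime abelian normal subgroup. -/
theorem kegel_centralizes [Finite G] {p : ℕ} (hp : p.Prime) (V R : Subgroup G) [V.Normal]
    [IsMulCommutative V] {y : G} (hy : y ∈ normalizer (R : Set G))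
    (hcop : (Nat.card R).Coprime (Nat.card V))
    (h : ∀ v ∈ V, ∀ r ∈ R, (v * r * y) ^ p = 1) : R ≤ centralizer (V : Set G) := by
  classical
  have := Fintype.ofFinite R
  have h1 : ∀ r ∈ R, (r * y) ^ p = 1 := fun r hr => by simpa using h 1 V.one_mem r hr
  have h2 : ∀ (v : V) (r : R), ∏ i ∈ Finset.range p, MulAut.conjNormal (((r : G) * y) ^ i) v = 1 := by
    intro v r
    have e := kegel_mul_pow V v (r * y) p
    rw [← mul_assoc, h v v.2 r r.2, h1 r r.2, mul_one] at e
    exact Subtype.ext e.symm
  have h3 : ∀ (i : ℕ) (r : R), ((r : G) * y) ^ i * (y ^ i)⁻¹ ∈ R := by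
    intro i r
    induction i with
    | zero => simp
    | succ i ih =>
      have e : ((r : G) * y) ^ (i + 1) * (y ^ (i + 1))⁻¹ =
          r * (y * (((r : G) * y) ^ i * (y ^ i)⁻¹) * y⁻¹) := by
        rw [pow_succ', pow_succ']; group
      rw [e]
      exact R.mul_mem r.2 ((mem_normalizer_iff.mp hy _).mp ih)
  have h4 : ∀ (i : ℕ), 0 < i → i < p → ∀ v : V,
      ∏ r : R, MulAut.conjNormal (((r : G) * y) ^ i) v =
        ∏ r : R, MulAut.conjNormal ((r : G) * y ^ i) v := by
    intro i hi hip v
    let f : R → R := fun r => ⟨_, h3 i r⟩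
    have hf : Function.Injective f := by
      intro a b hab
      have e : ((a : G) * y) ^ i = ((b : G) * y) ^ i := by
        have := congrArg Subtype.val hab
        simpa [f] using this
      have hc : i.Coprime p := (Nat.coprime_of_lt_prime hi.ne' hip hp).symm
      obtain ⟨m, -, hm⟩ := Nat.exists_mul_mod_eq_one_of_coprime hc hp.one_lt
      have key : ∀ x : G, x ^ p = 1 → (x ^ i) ^ m = x := by
        intro x hx
        rw [← pow_mul, ← Nat.mod_add_div (i * m) p, hm, pow_add, pow_mul, hx, one_pow, mul_one,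
          pow_one]
      have e2 : (a : G) * y = b * y := by
        rw [← key _ (h1 a a.2), e, key _ (h1 b b.2)]
      exact Subtype.ext (mul_right_cancel e2)
    refine Fintype.prod_bijective f (Finite.injective_iff_bijective.mp hf) _ _ fun r => ?_
    simp [f]
  have h5 : ∀ (v : V) (s : R), MulAut.conjNormal (s : G) (v ^ Nat.card R) = v ^ Nat.card R := by
    intro v s
    have e : ∏ r : R, ∏ i ∈ Finset.range p, MulAut.conjNormal (((r : G) * y) ^ i) v = 1 :=
      Finset.prod_eq_one fun r _ => h2 v r
    rw [Finset.prod_comm] at e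
    obtain ⟨m, rfl⟩ : ∃ m, p = m + 1 := ⟨p - 1, by have := hp.pos; omega⟩
    rw [Finset.prod_range_succ'] at e
    simp only [pow_zero, map_one, MulAut.one_apply, Finset.prod_const, Finset.card_univ] at e
    rw [Nat.card_eq_fintype_card, eq_inv_of_mul_eq_one_right e, map_inv, map_prod]
    congr 1
    refine Finset.prod_congr rfl fun i hi => ?_
    rw [h4 (i + 1) (by omega) (by simpa using hi), map_prod]
    refine Fintype.prod_equiv (Equiv.mulLeft s) _ _ fun r => ?_
    simp [mul_assoc]
  intro s hs w hw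
  obtain ⟨v, hv⟩ := (powCoprime hcop.symm).surjective ⟨w, hw⟩
  have e := h5 v ⟨s, hs⟩
  rw [powCoprime_apply] at hv
  rw [hv] at e
  have e2 : s * w * s⁻¹ = w := congrArg Subtype.val e
  calc w * s = s * w * s⁻¹ * s := by rw [e2]
    _ = s * w := by group

theorem kegel_aux (hT : ThompsonNPC.{u}) {p : ℕ} (hp : p.Prime) (n : ℕ) :
    ∀ (G : Type u) [Group G] [Finite G] (K : Subgroup G) [K.Normal] (y : G), Nat.card K = n →
      (∀ k ∈ K, (k * y) ^ p = 1) → Group.IsNilpotent K := by
  induction n using Nat.strong_induction_on with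
  | _ n ih =>
  intro G _ _ K _ y hn h
  have IH1 : ∀ L : Subgroup G, L < K → ∀ k ∈ K, k * y ∈ normalizer (L : Set G) →
      Group.IsNilpotent L := by
    intro L hL k hk hky
    have e := subgroupOfEquivOfLe (le_normalizer : L ≤ normalizer (L : Set G))
    have := ih (Nat.card (L.subgroupOf (normalizer (L : Set G))))
      (by rw [Nat.card_congr e.toEquiv, ← hn]; exact CfsgLib.Core.card_lt_of_lt hL)
      (normalizer (L : Set G)) (L.subgroupOf _) ⟨k * y, hky⟩ rfl (fun l hl => Subtype.ext (by
        have := h (l * k) (K.mul_mem (hL.le hl) hk)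
        simpa [mul_assoc] using this))
    exact Group.nilpotent_of_mulEquiv e
  have IH2 : ∀ (N : Subgroup G) [N.Normal], N ≤ K → N ≠ ⊥ →
      Group.IsNilpotent (K.map (QuotientGroup.mk' N)) := by
    intro N _ hNK hN
    have : (K.map (QuotientGroup.mk' N)).Normal := Normal.map inferInstance _ (QuotientGroup.mk'_surjective N)
    refine ih _ ?_ (G ⧸ N) (K.map (QuotientGroup.mk' N)) (QuotientGroup.mk' N y) rfl ?_
    · rw [← hn, CfsgLib.Frob.card_eq_card_inf_ker_mul (QuotientGroup.mk' N) K,
        QuotientGroup.ker_mk', inf_eq_left.mpr hNK]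
      have h1 : 1 < Nat.card N := one_lt_card_iff_ne_bot _ |>.mpr hN
      have h2 : 0 < Nat.card (K.map (QuotientGroup.mk' N)) := Nat.card_pos
      nlinarith
    · rintro _ ⟨k, hk, rfl⟩
      rw [← map_mul, ← map_pow, h k hk, map_one]
  have frat : ∀ (q : ℕ) [Fact q.Prime] (P : Sylow q K),
      ∃ k ∈ K, k * y ∈ normalizer (((P : Subgroup K).map K.subtype : Subgroup G) : Set G) := by
    intro q _ P
    have e := P.normalizer_sup_eq_top
    have hy : y ∈ normalizer (((P : Subgroup K).map K.subtype : Subgroup G) : Set G) ⊔ K := by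
      rw [e]; trivial
    rw [sup_comm] at hy
    obtain ⟨a, ha, b, hb, hab⟩ := mem_sup_of_normal_left.mp hy
    exact ⟨a⁻¹, K.inv_mem ha, by rw [← hab]; simpa using hb⟩
  have solv_of : ∀ (N : Subgroup G) [N.Normal], N ≤ K → N ≠ ⊥ → Group.IsSolvable N →
      Group.IsSolvable K := by
    intro N _ hNK hN hs
    have := @IsNilpotent.to_isSolvable _ _ (IH2 N hNK hN)
    refine Group.isSolvable_of_ker_le_range (inclusion hNK) ((QuotientGroup.mk' N).subgroupMap K) ?_
    intro x hx
    have : (x : G) ∈ N := by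
      have := congrArg Subtype.val (MonoidHom.mem_ker.mp hx)
      simpa using this
    exact ⟨⟨x, this⟩, rfl⟩
  have hsolv : Group.IsSolvable K := by
    by_cases h2 : IsPGroup 2 K
    · have := Fact.mk Nat.prime_two
      exact @IsNilpotent.to_isSolvable _ _ h2.isNilpotent
    obtain ⟨q, hq, hqd, hq2⟩ : ∃ q : ℕ, q.Prime ∧ q ∣ Nat.card K ∧ q ≠ 2 := by
      by_contra hcon
      push Not at hcon
      apply h2
      have := Fact.mk Nat.prime_two
      exact IsPGroup.iff_card.mpr ⟨_, Nat.eq_prime_pow_of_unique_prime_dvd Nat.card_pos.ne'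
        (fun hq hd => hcon _ hq hd)⟩
    have := Fact.mk hq
    by_cases hO : pCore q K = ⊥
    swap
    · have := CfsgLib.Core.pCore_characteristic q K
      have hne : (pCore q K).map K.subtype ≠ ⊥ := fun e =>
        hO ((map_eq_bot_iff_of_injective _ K.subtype_injective).mp e)
      exact solv_of _ (map_subtype_le _) hne (@IsNilpotent.to_isSolvable _ _
        ((CfsgLib.Core.isPGroup_pCore q K).map K.subtype).isNilpotent)
    obtain ⟨P⟩ : Nonempty (Sylow q K) := inferInstance
    obtain ⟨k, hk, hky⟩ := frat q P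
    have hPd : q ∣ Nat.card (P : Subgroup K) := P.dvd_card_of_dvd_card hqd
    have hloc : ∀ C : Subgroup K, C ≤ P → C ≠ ⊥ →
        k * y ∈ normalizer ((C.map K.subtype : Subgroup G) : Set G) →
        Group.IsNilpotent (normalizer (C : Set K)) := by
      intro C hCP hC hn
      have hle : ∀ x : K, x ∈ normalizer (C : Set K) ↔
          (x : G) ∈ normalizer ((C.map K.subtype : Subgroup G) : Set G) := by
        intro x
        rw [← mem_subgroupOf, subgroupOf_normalizer_eq (map_subtype_le C), subgroupOf,
          comap_map_eq_self_of_injective K.subtype_injective]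
      have hlt : K ⊓ normalizer ((C.map K.subtype : Subgroup G) : Set G) < K := by
        refine lt_of_le_of_ne inf_le_left fun e => hC ?_
        have : C.Normal := normalizer_eq_top_iff.mp (eq_top_iff.mpr fun x _ =>
          (hle x).mpr (e.ge x.2).2)
        exact eq_bot_iff.mpr (hO ▸ CfsgLib.Core.le_pCore (P.isPGroup'.to_le hCP))
      have := IH1 _ hlt k hk (by
        refine inf_normalizer_le_normalizer_inf ⟨?_, ?_⟩
        · rw [normalizer_eq_top]; trivial
        · exact le_normalizer hn)
      refine Subgroup.isNilpotent_of_ker_le_center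
        (H := ↥(K ⊓ normalizer ((C.map K.subtype : Subgroup G) : Set G)))
        ((K.subtype.comp (normalizer (C : Set K)).subtype).codRestrict _
          fun x => ⟨x.1.2, (hle x).mp x.2⟩) ?_
      intro a ha
      have e := congrArg Subtype.val (MonoidHom.mem_ker.mp ha)
      have : a = 1 := Subtype.ext (Subtype.ext e)
      rw [this]
      exact one_mem _
    have hJ := hloc (thompsonSubgroupOf q (P : Subgroup K)) (CfsgLib.PLocal.thompsonSubgroupOf_le _)
      (CfsgLib.PLocal.thompsonSubgroupOf_ne_bot hPd) (by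
        rw [CfsgLib.PLocal.map_thompsonSubgroupOf K.subtype_injective]
        exact CfsgLib.PLocal.normalizer_le_normalizer_thompsonSubgroupOf _ hky)
    have hP1 : (P : Subgroup K) ≠ ⊥ := fun e => by
      rw [e, card_bot] at hPd; exact hq.one_lt.ne' (Nat.dvd_one.mp hPd)
    have hZ := hloc ((P : Subgroup K) ⊓ centralizer (P : Set K)) inf_le_left
      (CfsgLib.Core.inf_centralizer_ne_bot_of_isPGroup P.isPGroup' P.isPGroup' le_normalizer hP1) (by
        have e : ((P : Subgroup K) ⊓ centralizer (P : Set K)).map K.subtype =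
            (P : Subgroup K).map K.subtype ⊓
              centralizer (((P : Subgroup K).map K.subtype : Subgroup G) : Set G) := by
          ext x
          constructor
          · rintro ⟨x, ⟨h1, h2⟩, rfl⟩
            refine ⟨⟨x, h1, rfl⟩, ?_⟩
            rintro _ ⟨z, hz, rfl⟩
            exact congrArg Subtype.val (h2 z hz)
          · rintro ⟨⟨x, h1, rfl⟩, h2⟩
            exact ⟨x, ⟨h1, fun z hz => Subtype.ext (h2 _ ⟨z, hz, rfl⟩)⟩, rfl⟩
        rw [e]
        exact inf_normalizer_le_normalizer_inf ⟨hky, CfsgLib.Core.normalizer_le_normalizer_centralizer _ hky⟩)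
    have hZ' : Group.IsNilpotent
        (centralizer (((P : Subgroup K) ⊓ centralizer (P : Set K) : Subgroup K) : Set K)) :=
      CfsgLib.Core.isNilpotent_of_le (centralizer_le_normalizer _)
    have hc := hT K q hq2 P CfsgLib.Transfer.hasNormalPComplement_of_isNilpotent
      CfsgLib.Transfer.hasNormalPComplement_of_isNilpotent
    have hch := CfsgLib.Transfer.pResidual_characteristic (p := q) (G := K)
    have hlt : (pResidual q K).map K.subtype < K := by
      refine lt_of_le_of_ne (map_subtype_le _) fun e => ?_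
      apply CfsgLib.Transfer.hasNormalPComplement_iff_not_dvd.mp hc
      rw [← card_map_of_injective K.subtype_injective, e]
      exact hqd
    have h1 := IH1 _ hlt 1 K.one_mem (by rw [normalizer_eq_top]; trivial)
    have h2 : Group.IsNilpotent (pResidual q K) :=
      Group.nilpotent_of_mulEquiv (equivMapOfInjective _ _ K.subtype_injective).symm
    have h3 := @IsNilpotent.to_isSolvable _ _
      (CfsgLib.Transfer.isPGroup_quotient_pResidual (p := q) (G := K)).isNilpotent
    have h4 := @IsNilpotent.to_isSolvable _ _ h2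
    exact Group.isSolvable_of_ker_le_range (pResidual q K).subtype (QuotientGroup.mk' (pResidual q K)) (by simp)
  by_cases hK : K = ⊥
  · subst hK; exact Group.isNilpotent_of_subsingleton
  obtain ⟨q, V, hq, hVn, hV1, hVK, hVe, -⟩ :=
    CfsgLib.Core.exists_elementaryAbelian_minimal_normal_le hK
  have := hVe.1
  have := Fact.mk hq
  have hVq : IsPGroup q V := CfsgLib.PLocal.elemAb_isPGroup hVe
  obtain ⟨Q⟩ : Nonempty (Sylow q K) := inferInstance
  obtain ⟨z, hzV, hz1, hzQ⟩ := CfsgLib.Frob.exists_ne_one_mem_centralizer_of_isPGroup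
    (Q.isPGroup'.map K.subtype) hVq hV1 (by rw [normalizer_eq_top]; exact le_top)
  have hzK : K ≤ centralizer {z} := by
    rw [← subgroupOf_eq_top]
    refine CfsgLib.Frob.eq_top_of_forall_sylow_le fun r hr => ?_
    have := Fact.mk hr
    by_cases hrq : r = q
    · subst hrq
      refine ⟨Q, fun x hx => ?_⟩
      rw [mem_subgroupOf, mem_centralizer_singleton_iff]
      exact hzQ _ ⟨x, hx, rfl⟩
    · obtain ⟨R⟩ : Nonempty (Sylow r K) := inferInstance
      obtain ⟨k, hk, hky⟩ := frat r R
      have hcen := kegel_centralizes hp V _ hky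
        (IsPGroup.coprime_card_of_ne r q hrq _ _ (R.isPGroup'.map K.subtype) hVq)
        (fun v hv s hs => by
          rw [← mul_assoc]
          exact h _ (K.mul_mem (K.mul_mem (hVK hv) (map_subtype_le _ hs)) hk))
      refine ⟨R, fun x hx => ?_⟩
      rw [mem_subgroupOf, mem_centralizer_singleton_iff]
      exact (hcen ⟨x, hx, rfl⟩ z hzV).symm
  have hZ1 : K ⊓ centralizer (K : Set G) ≠ ⊥ := by
    intro e
    apply hz1
    rw [← mem_bot, ← e]
    exact ⟨hVK hzV, fun x hx => mem_centralizer_singleton_iff.mp (hzK hx)⟩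
  have := IH2 (K ⊓ centralizer (K : Set G)) inf_le_left hZ1
  refine Subgroup.isNilpotent_of_ker_le_center
    ((QuotientGroup.mk' (K ⊓ centralizer (K : Set G))).subgroupMap K) ?_
  intro x hx
  have hx' : (x : G) ∈ K ⊓ centralizer (K : Set G) := by
    have := congrArg Subtype.val (MonoidHom.mem_ker.mp hx)
    simpa using this
  rw [mem_center_iff]
  exact fun g => Subtype.ext (hx'.2 g g.2)

/-- Kegel's theorem. -/
theorem kegel (hT : ThompsonNPC.{u}) {p : ℕ} (hp : p.Prime) {G : Type u} [Group G] [Finite G]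
    (K : Subgroup G) [K.Normal] (y : G) (h : ∀ k ∈ K, (k * y) ^ p = 1) : Group.IsNilpotent K :=
  kegel_aux hT hp _ G K y rfl h

/-- The Hughes-Thompson theorem with Kegel's complement. -/
theorem hughes_thompson (hT : ThompsonNPC.{u}) {G : Type u} [Group G] [Finite G] (p : ℕ)
    (hp : p.Prime) (hG : ¬ IsPGroup p G) (hH : closure {g : G | g ^ p ≠ 1} ≠ ⊤) :
    Group.IsNilpotent (closure {g : G | g ^ p ≠ 1}) ∧ (closure {g : G | g ^ p ≠ 1}).index = p := by
  set H := closure {g : G | g ^ p ≠ 1} with hHdef
  have := Fact.mk hp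
  have hout : ∀ g, g ∉ H → g ^ p = 1 := fun g hg => by
    by_contra hne
    exact hg (subset_closure hne)
  have hHn : H.Normal := by
    refine ⟨fun x hx g => ?_⟩
    have : H ≤ H.comap (MulAut.conj g).toMonoidHom := by
      rw [hHdef, closure_le]
      intro a ha
      refine subset_closure ?_
      intro e
      apply ha
      have : MulAut.conj g (a ^ p) = 1 := by rw [map_pow]; exact e
      exact (MulAut.conj g).map_eq_one_iff.mp this
    exact this hx
  have hT' : ∀ (K : Subgroup G) [K.Normal], H ≤ K → K ≠ ⊤ → Group.IsNilpotent K := by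
    intro K _ hHK hK
    obtain ⟨y, hy⟩ : ∃ y, y ∉ K := by
      by_contra hcon
      push Not at hcon
      exact hK (eq_top_iff.mpr fun x _ => hcon x)
    exact kegel hT hp K y fun k hk => hout _ fun e => hy ((K.mul_mem_cancel_left hk).mp (hHK e))
  refine ⟨hT' H le_rfl hH, ?_⟩
  have hexp : ∀ x : G ⧸ H, x ^ p = 1 := by
    intro x
    induction x using QuotientGroup.induction_on with
    | H g =>
      rw [← QuotientGroup.mk_pow, QuotientGroup.eq_one_iff]
      by_cases hg : g ∈ H
      · exact H.pow_mem hg _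
      · rw [hout g hg]; exact H.one_mem
  have hQ : IsPGroup p (G ⧸ H) := fun x => ⟨1, by rw [pow_one, hexp]⟩
  have hnt : (⊤ : Subgroup (G ⧸ H)) ≠ ⊥ := by
    have := QuotientGroup.nontrivial_iff.mpr hH
    exact top_ne_bot
  obtain ⟨z, -, hzc, hzp⟩ := CfsgLib.Core.exists_mem_center_orderOf_eq hQ hnt
  by_cases hz : zpowers z = ⊤
  · rw [index, ← hzp, ← Nat.card_zpowers, hz, card_top]
  exfalso
  have hzn : (zpowers z).Normal := CfsgLib.Core.normal_of_le_center (by simpa using hzc)
  obtain ⟨a, rfl⟩ := QuotientGroup.mk_surjective z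
  have haH : a ∉ H := fun e => by
    rw [(QuotientGroup.eq_one_iff a).mpr e, orderOf_one] at hzp
    exact hp.one_lt.ne hzp
  let K := (zpowers (a : G ⧸ H)).comap (QuotientGroup.mk' H)
  have hHK : H ≤ K := fun x hx => by
    change QuotientGroup.mk' H x ∈ zpowers _
    rw [QuotientGroup.mk'_apply, (QuotientGroup.eq_one_iff x).mpr hx]
    exact one_mem _
  have hK : K ≠ ⊤ := fun e => hz (by
    rw [eq_top_iff]
    intro x _
    obtain ⟨x, rfl⟩ := QuotientGroup.mk_surjective x
    exact (e.ge (mem_top x) : x ∈ K))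
  have := hT' K hHK hK
  obtain ⟨q, hq, hqd, hqp⟩ : ∃ q : ℕ, q.Prime ∧ q ∣ Nat.card G ∧ q ≠ p := by
    by_contra hcon
    push Not at hcon
    exact hG (IsPGroup.iff_card.mpr ⟨_, Nat.eq_prime_pow_of_unique_prime_dvd Nat.card_pos.ne'
      (fun hq hd => hcon _ hq hd)⟩)
  have := Fact.mk hq
  obtain ⟨b, hb⟩ := exists_prime_orderOf_dvd_card' (G := G) q hqd
  have hbp : b ^ p ≠ 1 := fun e => by
    have := orderOf_dvd_of_pow_eq_one e
    rw [hb] at this
    exact hqp ((Nat.prime_dvd_prime_iff_eq hq hp).mp this)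
  have hbH : b ∈ H := subset_closure hbp
  have haK : a ∈ K := mem_zpowers (a : G ⧸ H)
  have hcomm : Commute (⟨a, haK⟩ : K) ⟨b, hHK hbH⟩ := by
    apply CfsgLib.Core.commute_of_coprime_orderOf_of_isNilpotent
    rw [← orderOf_coe, ← orderOf_coe]
    change (orderOf a).Coprime (orderOf b)
    rw [hb]
    exact Nat.Coprime.coprime_dvd_left (orderOf_dvd_of_pow_eq_one (hout a haH))
      ((Nat.coprime_primes hp hq).mpr (Ne.symm hqp))
  have hc : Commute a b := congrArg Subtype.val hcomm
  have hab : a * b ∈ H := subset_closure (by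
    change (a * b) ^ p ≠ 1
    rw [hc.mul_pow, hout a haH, one_mul]
    exact hbp)
  exact haH ((H.mul_mem_cancel_right hbH).mp hab)

end CfsgLib.Fgs
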