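import Mathlib
import Cfsg.Agent.Lib.Fgs.ConjCount

/-!
Camina triples `(G, N, M)`: fixed-point-freeness on `M` of the elements outside `N` is equivalent
to `[G : N]` and `#M` being coprime. Minimal supplements of a normal subgroup.
-/

namespace CfsgLib.Fgs

open Subgroup

variable {G : Type*} [Group G]

/-- A normal subgroup whose order is divisible by `p` contains a non-identity element of `p`-power
order centralized by a given Sylow `p`-subgroup. -/
theorem exists_mem_normal_sylow_le_cent [Finite G] {p : ℕ} [hp : Fact p.Prime] (M : Subgroup G)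
    [hM : M.Normal] (hpM : p ∣ Nat.card M) (P : Sylow p G) :
    ∃ x ∈ M, x ∈ (P : Subgroup G) ∧ x ≠ 1 ∧ (P : Subgroup G) ≤ centralizer ({x} : Set G) := by
  have hi : ¬ p ∣ ((P : Subgroup G).subgroupOf M).index := fun h =>
    P.not_dvd_index (h.trans (relIndex_dvd_index_of_normal_right _ M))
  have hdvd : p ∣ Nat.card ((P : Subgroup G).subgroupOf M) := by
    rw [← ((P : Subgroup G).subgroupOf M).card_mul_index] at hpM
    exact (hp.out.dvd_mul.1 hpM).resolve_right hi
  let K : Subgroup ↥(P : Subgroup G) := M.subgroupOf P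
  have hK : p ∣ Nat.card K := by
    rw [CfsgLib.Core.card_subgroupOf] at hdvd ⊢
    rwa [inf_comm]
  have hPc : IsPGroup p (ConjAct ↥(P : Subgroup G)) := P.isPGroup'.of_equiv ConjAct.toConjAct
  have h1 : (1 : K) ∈ MulAction.fixedPoints (ConjAct ↥(P : Subgroup G)) K := fun g => smul_one g
  obtain ⟨b, hb, hb1⟩ := hPc.exists_fixed_point_of_prime_dvd_card_of_fixed_point K hK h1
  refine ⟨b, b.2, b.1.2, fun h => hb1 (Subtype.ext (Subtype.ext h.symm)), fun g hg => ?_⟩
  have h2 := congrArg (fun z : K => ((z : ↥(P : Subgroup G)) : G)) (hb (ConjAct.toConjAct ⟨g, hg⟩))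
  rw [mem_centralizer_singleton_iff, ← mul_inv_eq_iff_eq_mul]
  exact h2

/-- If every non-identity element of `M` has its centralizer in `N`, then `[G : N]` is prime to
`#M`. -/
theorem coprime_index_of_cent_le [Finite G] (N M : Subgroup G) [M.Normal]
    (h : ∀ x ∈ M, x ≠ 1 → centralizer ({x} : Set G) ≤ N) : N.index.Coprime (Nat.card M) := by
  refine Nat.coprime_of_dvd fun q hq h1 h2 => ?_
  haveI := Fact.mk hq
  obtain ⟨P⟩ : Nonempty (Sylow q G) := inferInstance
  obtain ⟨x, hxM, -, hx1, hP⟩ := exists_mem_normal_sylow_le_cent M h2 P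
  exact not_dvd_index_of_sylow_le P (hP.trans (h x hxM hx1)) h1

/-- The `p`-part of an element lies in a normal subgroup of index prime to `p`; so the `p'`-part of
an element outside stays outside. -/
theorem exists_pprime_part_notMem [Finite G] {p : ℕ} [hp : Fact p.Prime] (N : Subgroup G) [N.Normal]
    (hN : ¬ p ∣ N.index) {g : G} (hg : g ∉ N) :
    ∃ b ∈ zpowers g, b ∉ N ∧ ¬ p ∣ orderOf b := by
  obtain ⟨a, b, -, hb, hab, -, ⟨k, hk⟩, hb'⟩ := exists_p_part p g
  refine ⟨b, hb, fun hbN => hg ?_, hb'⟩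
  rw [← hab]
  refine mul_mem (CfsgLib.Core.mem_of_coprime_orderOf_index ?_) hbN
  rw [hk]
  exact Nat.Coprime.pow_left _ ((Nat.Prime.coprime_iff_not_dvd hp.out).2 hN)

theorem camina_triple_fpf_iff_coprime [Finite G] (N M : Subgroup G) [N.Normal] [M.Normal]
    (hcam : ∀ g : G, g ∉ N → ∀ m ∈ M, ∃ x : G, x * g * x⁻¹ = g * m) :
    (∀ x ∈ M, x ≠ 1 → centralizer ({x} : Set G) ≤ N) ↔ N.index.Coprime (Nat.card M) := by
  refine ⟨coprime_index_of_cent_le N M, fun hcop x hxM hx1 g hg => ?_⟩
  by_contra hgN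
  obtain ⟨q, hq, hqx⟩ := Nat.exists_prime_and_dvd (mt orderOf_eq_one_iff.1 hx1)
  haveI := Fact.mk hq
  have hy : orderOf (x ^ (orderOf x / q)) = q := orderOf_pow_orderOf_div (orderOf_pos x).ne' hqx
  have hqM : q ∣ Nat.card M := hqx.trans (M.orderOf_dvd_natCard hxM)
  have hqN : ¬ q ∣ N.index := fun h => hq.one_lt.ne' (Nat.eq_one_of_dvd_coprimes hcop h hqM)
  obtain ⟨b, hb, hbN, hbq⟩ := exists_pprime_part_notMem N hqN hgN
  obtain ⟨c, hc⟩ := hcam b hbN _ (pow_mem hxM (orderOf x / q))
  have hcomm : Commute b (x ^ (orderOf x / q)) := by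
    obtain ⟨k, rfl⟩ := hb
    exact ((mem_cent_iff.1 hg).symm.zpow_left k).pow_right _
  have h1 : orderOf (b * x ^ (orderOf x / q)) = orderOf b := by
    rw [← hc]; exact (MulAut.conj c).orderOf_eq b
  rw [hcomm.orderOf_mul_eq_mul_orderOf_of_coprime
    (by rw [hy]; exact ((Nat.Prime.coprime_iff_not_dvd hq).2 hbq).symm), hy] at h1
  have h2 := orderOf_pos b
  have h3 := hq.one_lt
  nlinarith

/-- A minimal supplement `H` of a normal subgroup `N`: every prime divisor of `#H` divides
`[G : N]`. -/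
theorem exists_supplement_primes [Finite G] (N : Subgroup G) [N.Normal] :
    ∃ H : Subgroup G, H ⊔ N = ⊤ ∧ ∀ q : ℕ, q.Prime → q ∣ Nat.card H → q ∣ N.index := by
  obtain ⟨H, hH, hmin⟩ := WellFounded.has_min (wellFounded_lt (α := Subgroup G))
    {H : Subgroup G | H ⊔ N = ⊤} ⟨⊤, by simp⟩
  have hH' : H ⊔ N = ⊤ := hH
  have hmin' : ∀ K : Subgroup H, K ⊔ N.subgroupOf H = ⊤ → K = ⊤ := by
    intro K hK
    by_contra hne
    refine hmin (K.map H.subtype) ?_ ?_
    · have h1 := congrArg (Subgroup.map H.subtype) hK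
      rw [Subgroup.map_sup, subgroupOf_map_subtype, ← MonoidHom.range_eq_map, range_subtype] at h1
      change K.map H.subtype ⊔ N = ⊤
      rw [eq_top_iff, ← hH']
      refine sup_le ?_ le_sup_right
      calc H = K.map H.subtype ⊔ N ⊓ H := h1.symm
        _ ≤ _ := sup_le_sup_left inf_le_left _
    · refine lt_of_le_of_ne (map_subtype_le K) fun h => hne ?_
      apply map_injective H.subtype_injective
      rw [h, ← MonoidHom.range_eq_map, range_subtype]
  refine ⟨H, hH, fun q hq hqH => ?_⟩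
  by_contra hqN
  haveI := Fact.mk hq
  have hidx : (N.subgroupOf H).index = N.index := by
    change N.relIndex H = _
    rw [← relIndex_sup_right, hH', relIndex_top_right]
  obtain ⟨P⟩ : Nonempty (Sylow q H) := inferInstance
  have hPN : (P : Subgroup H) ≤ N.subgroupOf H := by
    apply CfsgLib.Core.le_of_coprime_card_index
    obtain ⟨k, hk⟩ := IsPGroup.iff_card.1 P.isPGroup'
    rw [hk, hidx]
    exact Nat.Coprime.pow_left _ ((Nat.Prime.coprime_iff_not_dvd hq).2 hqN)
  have hn := hmin' _ (P.normalizer_sup_eq_top' hPN)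
  haveI : (P : Subgroup H).Normal := normalizer_eq_top_iff.1 hn
  obtain ⟨K, hK⟩ := exists_right_complement'_of_coprime P.card_coprime_index
  have hK2 : K = ⊤ := by
    apply hmin'
    rw [eq_top_iff, ← hK.sup_eq_top, sup_comm]
    exact sup_le_sup_left hPN _
  have hP1 : (P : Subgroup H) = ⊥ := by
    have := hK.disjoint
    rw [hK2] at this
    exact disjoint_top.1 this
  exact P.ne_bot_of_dvd_card hqH hP1

end CfsgLib.Fgs
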