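import Cfsg.Agent.Lib.Fgs.Camina
import Cfsg.Agent.Lib.Frob.Thompson
import Cfsg.Agent.Lib.Frob.Complement
import Cfsg.Agent.Lib.Transfer.Tate
import Cfsg.Agent.Lib.PGroup.Basic
import Cfsg.Agent.Lib.Core.Frattini

/-!
# Camina's theorem on Camina pairs
-/

namespace CfsgLib.Fgs

open Subgroup
open scoped commutatorElement

variable {G : Type*} [Group G] [Finite G]

theorem camina_sylow {N : Subgroup G} [hN : N.Normal]
    (hcam : ∀ g : G, g ∉ N → ∀ n ∈ N, ∃ x : G, x * g * x⁻¹ = g * n) {s : ℕ} [hs : Fact s.Prime]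
    (S : Sylow s G) {g : G} (hgS : g ∈ (S : Subgroup G)) (hgN : g ∉ N)
    (hc : ∀ x ∈ (S : Subgroup G), g⁻¹ * (x * g * x⁻¹) ∈ N) :
    ∀ n ∈ (S : Subgroup G) ⊓ N, ∃ x ∈ (S : Subgroup G), x * g * x⁻¹ = g * n := by
  set T := (centralizer {(g : G ⧸ N)}).comap (QuotientGroup.mk' N) with hT
  have hmem : ∀ x, x ∈ T ↔ g⁻¹ * (x * g * x⁻¹) ∈ N := fun x => by
    rw [hT, mem_comap, mem_centralizer_singleton_iff, ← QuotientGroup.eq, QuotientGroup.mk_mul,
      QuotientGroup.mk_mul, QuotientGroup.mk_inv, eq_mul_inv_iff_mul_eq, eq_comm]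
    rfl
  have hST : (S : Subgroup G) ≤ T := fun x hx => (hmem x).2 (hc x hx)
  set C := centralizer ({g} : Set G) with hC
  have hCT : C ≤ T := fun x hx => (hmem x).2 (by
    rw [mem_centralizer_singleton_iff.1 hx]; simp)
  have h1 : C.relIndex T = Nat.card N := by
    rw [hC, ← ncard_conj_by_subgroup]
    have : {y | ∃ h ∈ T, y = h * g * h⁻¹} = (fun n => g * n) '' (N : Set G) := by
      ext y
      constructor
      · rintro ⟨h, hh, rfl⟩
        exact ⟨_, (hmem h).1 hh, by simp⟩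
      · rintro ⟨n, hn, rfl⟩
        obtain ⟨x, hx⟩ := hcam g hgN n hn
        exact ⟨x, (hmem x).2 (by rw [hx]; simpa using hn), hx.symm⟩
    rw [this, Set.ncard_image_of_injective _ (mul_right_injective g)]
    rfl
  have h2 : Nat.card N ∣ C.relIndex S * (S : Subgroup G).relIndex T := by
    rw [← inf_relIndex_right C S, relIndex_mul_relIndex _ _ _ inf_le_right hST,
      ← relIndex_mul_relIndex _ C T inf_le_left hCT, h1]
    exact dvd_mul_left _ _
  have h3 : Nat.card ((S : Subgroup G) ⊓ N : Subgroup G) ∣ C.relIndex S := by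
    refine Nat.Coprime.dvd_of_dvd_mul_right ?_ ((card_dvd_of_le inf_le_right).trans h2)
    refine Core.isPGroup_coprime_card (S.isPGroup'.to_inf_left) ?_
    exact ((Nat.Prime.coprime_iff_not_dvd hs.out).2 fun h =>
      S.not_dvd_index (h.trans (relIndex_dvd_index_of_le hST))).symm
  have h4 : {y | ∃ h ∈ (S : Subgroup G), y = h * g * h⁻¹} =
      (fun n => g * n) '' (((S : Subgroup G) ⊓ N : Subgroup G) : Set G) := by
    apply Set.eq_of_subset_of_ncard_le
    · rintro _ ⟨h, hh, rfl⟩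
      exact ⟨_, mem_inf.2 ⟨mul_mem (inv_mem hgS) (mul_mem (mul_mem hh hgS) (inv_mem hh)), hc h hh⟩,
        by simp⟩
    · rw [ncard_conj_by_subgroup, Set.ncard_image_of_injective _ (mul_right_injective g)]
      exact Nat.le_of_dvd (Nat.pos_of_ne_zero index_ne_zero_of_finite) h3
    · exact Set.toFinite _
  intro n hn
  obtain ⟨x, hx, h⟩ : g * n ∈ {y | ∃ h ∈ (S : Subgroup G), y = h * g * h⁻¹} := h4 ▸ ⟨n, hn, rfl⟩
  exact ⟨x, hx, h.symm⟩

theorem camina_exists {N : Subgroup G} [hN : N.Normal]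
    (hcam : ∀ g : G, g ∉ N → ∀ n ∈ N, ∃ x : G, x * g * x⁻¹ = g * n) {s : ℕ} [hs : Fact s.Prime]
    (S : Sylow s G) (hd : s ∣ N.index) :
    ∃ g ∈ (S : Subgroup G), g ∉ N ∧ g ^ s ∈ N ∧
      (∀ x ∈ (S : Subgroup G), g⁻¹ * (x * g * x⁻¹) ∈ N) ∧
      ∀ n ∈ (S : Subgroup G) ⊓ N, ∃ x ∈ (S : Subgroup G), x * g * x⁻¹ = g * n := by
  have hle : ¬ (⊤ : Subgroup (S : Subgroup G)) ≤ N.subgroupOf S := fun h =>
    S.not_dvd_index (hd.trans (index_dvd_of_le fun x hx => h (mem_top (⟨x, hx⟩ : (S : Subgroup G)))))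
  obtain ⟨g, -, h1, h2, h3⟩ := PGroup.exists_central_mod_pow_mem S.isPGroup' hle
  have h4 : ∀ x ∈ (S : Subgroup G), (g : G)⁻¹ * (x * g * x⁻¹) ∈ N := fun x hx => by
    have h5 : ⁅(g : G), x⁆ ∈ N := h3 ⟨x, hx⟩
    have := hN.conj_mem _ (inv_mem h5) (g : G)⁻¹
    simpa [commutatorElement_def, mul_assoc] using this
  exact ⟨g, g.2, h1, h2, h4, camina_sylow hcam S g.2 h1 h4⟩

/-- For a prime dividing `|G : N|`, the group `N` has a normal complement. -/
theorem camina_hasNormalPComplement {N : Subgroup G} [hN : N.Normal]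
    (hcam : ∀ g : G, g ∉ N → ∀ n ∈ N, ∃ x : G, x * g * x⁻¹ = g * n) {s : ℕ} [hs : Fact s.Prime]
    (hd : s ∣ N.index) : Cfsg.HasNormalPComplement s N := by
  obtain ⟨S⟩ : Nonempty (Sylow s G) := inferInstance
  obtain ⟨g, hg, -, -, -, h⟩ := camina_exists hcam S hd
  refine Transfer.hasNormalPComplement_of_inf_le_frattini S N fun n hn => ?_
  obtain ⟨x, hx, h⟩ := h n ⟨hn.2, hn.1⟩
  refine Core.commutator_le_map_frattini S.isPGroup' ?_
  have := commutator_mem_commutator (inv_mem hg) hx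
  rwa [commutatorElement_def, inv_inv, mul_assoc, mul_assoc, ← mul_assoc x, h,
    inv_mul_cancel_left] at this

theorem camina_false {N : Subgroup G} [hN : N.Normal]
    (hcam : ∀ g : G, g ∉ N → ∀ n ∈ N, ∃ x : G, x * g * x⁻¹ = g * n) {s : ℕ} [hs : Fact s.Prime]
    (hd : s ∣ N.index) (hd' : s ∣ Nat.card N) (M : Subgroup G) [M.Normal] (hMN : M < N)
    (hM : ¬ s ∣ M.relIndex N) : False := by
  obtain ⟨S⟩ : Nonempty (Sylow s G) := inferInstance
  obtain ⟨g, hg, hgN, hgs, hc, h⟩ := camina_exists hcam S hd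
  have hcop : (M.relIndex N).Coprime s := ((Nat.Prime.coprime_iff_not_dvd hs.out).2 hM).symm
  have hpow : ∀ n ∈ N, ∀ k, (n : G ⧸ M) ^ s ^ k = 1 → (n : G ⧸ M) = 1 := by
    intro n hn k hk
    have h1 : (n : G ⧸ M) ^ M.relIndex N = 1 := by
      rw [← QuotientGroup.mk_pow, QuotientGroup.eq_one_iff]
      exact pow_index_mem (M.subgroupOf N) ⟨n, hn⟩
    rw [← orderOf_eq_one_iff]
    exact Nat.eq_one_of_dvd_coprimes (hcop.pow_right k) (orderOf_dvd_of_pow_eq_one h1)
      (orderOf_dvd_of_pow_eq_one hk)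
  have hS : ∀ x ∈ (S : Subgroup G), ∃ k, x ^ s ^ k = 1 := Core.isPGroup_subgroup_iff.1 S.isPGroup'
  have hSM : ∀ x ∈ (S : Subgroup G), x ∈ N → (x : G ⧸ M) = 1 := fun x hx hxN => by
    obtain ⟨k, hk⟩ := hS x hx
    exact hpow x hxN k (by rw [← QuotientGroup.mk_pow, hk]; rfl)
  have hq := QuotientGroup.mk'_surjective M
  have := hN.map _ hq
  have hPQ : Frob.PQCond ((S : Subgroup G).map (QuotientGroup.mk' M)) := by
    refine Frob.pqCond_of_fpf (K := N.map (QuotientGroup.mk' M)) ?_ le_normalizer_of_normal ?_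
    · rw [Ne, Subgroup.map_eq_bot_iff, QuotientGroup.ker_mk']
      exact hMN.not_ge
    · rintro _ ⟨y, hy, rfl⟩ hy1
      rw [eq_bot_iff]
      rintro _ ⟨⟨n, hn, rfl⟩, hcn⟩
      obtain ⟨k, hk⟩ := hS y hy
      obtain ⟨x, hx⟩ := hcam y (fun h => hy1 (hSM y hy h)) n hn
      have h1 : (y * n) ^ s ^ k = 1 := by rw [← hx, conj_pow, hk]; simp
      have h2 : Commute (y : G ⧸ M) n := (mem_centralizer_singleton_iff.1 hcn).symm
      refine hpow n hn k ?_
      have h3 := congrArg (QuotientGroup.mk' M) h1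
      rwa [map_pow, map_mul, QuotientGroup.mk'_apply, QuotientGroup.mk'_apply, h2.mul_pow,
        ← QuotientGroup.mk_pow, hk, QuotientGroup.mk_one, one_mul] at h3
  have hne : (S : Subgroup G) ⊓ N ≠ ⊥ := fun h =>
    Transfer.not_dvd_card_of_inf_sylow_eq_bot S N (by rwa [inf_comm]) hd'
  have := S.isPGroup'.isNilpotent
  have hlt := Core.commutator_lt_of_isNilpotent (K := (S : Subgroup G)) inf_le_left
    (le_trans (le_inf le_normalizer le_normalizer_of_normal) inf_normalizer_le_normalizer_inf) hne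
  refine hlt.not_ge fun n hn => ?_
  obtain ⟨x, hx, h⟩ := h n hn
  have hn' : n = ⁅g⁻¹, x⁆ := by
    rw [commutatorElement_def, inv_inv, mul_assoc, mul_assoc, ← mul_assoc x, h, inv_mul_cancel_left]
  by_cases hxN : x ∈ N
  · rw [hn', commutator_comm]
    exact commutator_mem_commutator (inv_mem hg) ⟨hx, hxN⟩
  have hx1 : (x : G ⧸ M) ≠ 1 := fun h => hxN (hMN.le ((QuotientGroup.eq_one_iff x).1 h))
  have hg1 : (g : G ⧸ M) ≠ 1 := fun h => hgN (hMN.le ((QuotientGroup.eq_one_iff g).1 h))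
  have hog : orderOf (g : G ⧸ M) = s := orderOf_eq_prime (by
    rw [← QuotientGroup.mk_pow]; exact hSM _ (pow_mem hg s) hgs) hg1
  have hox : s ∣ orderOf (x : G ⧸ M) := by
    obtain ⟨k, hk⟩ := hS x hx
    have h1 : orderOf (x : G ⧸ M) ∣ s ^ k := orderOf_dvd_of_pow_eq_one (by
      rw [← QuotientGroup.mk_pow, hk]; rfl)
    obtain ⟨j, -, hj⟩ := (Nat.dvd_prime_pow hs.out).1 h1
    rw [hj]
    exact dvd_pow_self s (by rintro rfl; exact hx1 (orderOf_eq_one_iff.1 hj))
  have hcomm : Commute (x : G ⧸ M) g := by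
    have h1 := hSM n hn.1 hn.2
    have h2 := congrArg (QuotientGroup.mk' M) h
    simp only [map_mul, map_inv, QuotientGroup.mk'_apply, h1, mul_one] at h2
    exact mul_inv_eq_iff_eq_mul.1 h2
  have h1 := ((Frob.pqCond_subgroup_iff.1 hPQ) _ (pow_mem (mem_map_of_mem _ hx)
    (orderOf (x : G ⧸ M) / s)) _ (mem_map_of_mem _ hg)
      (by rw [QuotientGroup.mk'_apply, orderOf_pow_orderOf_div (orderOf_pos _).ne' hox]; exact hs.out)
      (by rw [QuotientGroup.mk'_apply, hog]; exact hs.out) (by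
        rw [QuotientGroup.mk'_apply, QuotientGroup.mk'_apply, ← (hcomm.pow_left _).eq,
          mul_inv_cancel_right]
        exact mem_zpowers _)).2
    (by rw [QuotientGroup.mk'_apply, QuotientGroup.mk'_apply,
      orderOf_pow_orderOf_div (orderOf_pos _).ne' hox, hog])
  obtain ⟨k, hk⟩ := zpowers_le.2 (pow_mem (mem_zpowers _) _) h1
  have h2 : (x ^ k)⁻¹ * g ∈ M := by
    rw [← QuotientGroup.eq, QuotientGroup.mk_zpow]
    exact hk
  have h3 : n = ⁅((x ^ k)⁻¹ * g)⁻¹, x⁆ := by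
    rw [hn', commutatorElement_def, commutatorElement_def]
    group
  rw [h3]
  exact commutator_mem_commutator
    (inv_mem (mem_inf.2 ⟨mul_mem (inv_mem (zpow_mem hx k)) hg, hMN.le h2⟩)) hx

/-- **Camina's theorem**. -/
theorem camina_trichotomy {N : Subgroup G} [hN : N.Normal]
    (hcam : ∀ g : G, g ∉ N → ∀ n ∈ N, ∃ x : G, x * g * x⁻¹ = g * n) :
    (∀ x ∈ N, x ≠ 1 → centralizer ({x} : Set G) ≤ N) ∨ IsPrimePow (Nat.card N) ∨
      IsPrimePow N.index := by
  by_contra hcon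
  push Not at hcon
  obtain ⟨h1, h2, h3⟩ := hcon
  have h4 : ¬ N.index.Coprime (Nat.card N) := fun h => by
    obtain ⟨x, hx, hx1, hc⟩ := h1
    exact hc ((camina_triple_fpf_iff_coprime N N hcam).2 h x hx hx1)
  obtain ⟨p, hp, hp1, hp2⟩ := Nat.Prime.not_coprime_iff_dvd.1 h4
  have := Fact.mk hp
  have other : ∀ n : ℕ, n ≠ 0 → p ∣ n → ¬ IsPrimePow n → ∃ q, q.Prime ∧ q ≠ p ∧ q ∣ n := by
    intro n hn hd h
    by_contra hc
    push Not at hc
    refine h ((isPrimePow_iff_unique_prime_dvd).2 ⟨p, ⟨hp, hd⟩, fun q hq => ?_⟩)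
    by_contra hne
    exact hc q hq.1 hne hq.2
  obtain ⟨q, hq, hqp, hqd⟩ := other _ index_ne_zero_of_finite hp1 h3
  have := Fact.mk hq
  have hq2 : ¬ q ∣ Nat.card N := fun hq2 => by
    have := Transfer.map_pResidual_normal (p := p) N
    have h5 := Transfer.hasNormalPComplement_iff_not_dvd.1 (camina_hasNormalPComplement hcam hp1)
    refine camina_false hcam hqd hq2 ((Cfsg.pResidual p N).map N.subtype)
      (lt_of_le_of_ne (map_subtype_le _) fun h => h5 ?_) ?_
    · rwa [← Core.card_map_subtype, h]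
    · obtain ⟨k, hk⟩ := Transfer.exists_index_pResidual (p := p) (G := N)
      rw [relIndex, subgroupOf, comap_map_eq_self_of_injective N.subtype_injective, hk]
      exact fun h => hqp ((Nat.prime_dvd_prime_iff_eq hq hp).1 (hq.dvd_of_dvd_pow h))
  obtain ⟨a, ha⟩ := exists_prime_orderOf_dvd_card' (G := G) q (hqd.trans (index_dvd_card N))
  have haN : a ∉ N := fun h => hq2 (ha ▸ N.orderOf_dvd_natCard h)
  have haq : a ^ q = 1 := ha ▸ pow_orderOf_eq_one a
  have hnil : Group.IsNilpotent N := by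
    refine Frob.isNilpotent_of_fpf (a := a) (le_normalizer_of_normal (mem_top a)) ?_ hq
      (haq ▸ one_mem _)
    rw [eq_bot_iff]
    rintro n ⟨hn, hc⟩
    obtain ⟨x, hx⟩ := hcam a haN n hn
    have h5 : (a * n) ^ q = 1 := by rw [← hx, conj_pow, haq]; simp
    rw [Commute.mul_pow (mem_centralizer_singleton_iff.1 hc).symm, haq, one_mul] at h5
    rw [mem_bot, ← orderOf_eq_one_iff]
    exact ((Nat.dvd_prime hq).1 (orderOf_dvd_of_pow_eq_one h5)).resolve_right fun h =>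
      hq2 (h ▸ N.orderOf_dvd_natCard hn)
  obtain ⟨P⟩ : Nonempty (Sylow p N) := inferInstance
  have hPn : (P : Subgroup N).Normal := inferInstance
  have := P.characteristic_of_normal hPn
  obtain ⟨r, hr, hrp, hrd⟩ := other _ Nat.card_pos.ne' hp2 h2
  refine camina_false hcam hp1 hp2 ((P : Subgroup N).map N.subtype)
    (lt_of_le_of_ne (map_subtype_le _) fun h => ?_) ?_
  · obtain ⟨k, hk⟩ := P.isPGroup'.exists_card_eq
    rw [← h, Core.card_map_subtype, hk] at hrd
    exact hrp ((Nat.prime_dvd_prime_iff_eq hr hp).1 (hr.dvd_of_dvd_pow hrd))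
  · rw [relIndex, subgroupOf, comap_map_eq_self_of_injective N.subtype_injective]
    exact P.not_dvd_index

end CfsgLib.Fgs
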