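import Mathlib
import Cfsg.Agent.Lib.PLocal.ElemRep
import Cfsg.Agent.Lib.Transfer.Frobenius

/-!
An element acting irreducibly on an elementary abelian group: the order of the group.
-/

set_option autoImplicit false

namespace CfsgLib.Fgs

open Polynomial

theorem exists_irreducible_aeval_eq_zero {k V : Type*} [Field k] [AddCommGroup V] [Module k V]
    [Nontrivial V] (T : Module.End k V)
    (hirr : ∀ W : Submodule k V, (∀ v ∈ W, T v ∈ W) → W = ⊥ ∨ W = ⊤) (g : k[X]) (hg : g ≠ 0)
    (h0 : aeval T g = 0) : ∃ f : k[X], Irreducible f ∧ f ∣ g ∧ aeval T f = 0 := by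
  induction g using WfDvdMonoid.induction_on_irreducible with
  | zero => exact absurd rfl hg
  | unit u hu =>
    exfalso
    have := hu.map (aeval T)
    rw [h0] at this
    exact not_isUnit_zero this
  | mul a i ha hi ih =>
    by_cases hi0 : aeval T i = 0
    · exact ⟨i, hi, dvd_mul_right _ _, hi0⟩
    · have hker : LinearMap.ker (aeval T i) = ⊥ := by
        refine (hirr _ ?_).resolve_right ?_
        · intro v hv
          rw [LinearMap.mem_ker] at hv ⊢
          have hc : aeval T i * T = T * aeval T i := by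
            have : aeval T (i * X) = aeval T (X * i) := by rw [mul_comm]
            simpa using this
          have := congrArg (fun S : Module.End k V => S v) hc
          simp only [Module.End.mul_apply] at this
          rw [this, hv, map_zero]
        · intro h
          exact hi0 (LinearMap.ker_eq_top.1 h)
      have ha0 : aeval T a = 0 := by
        ext v
        have := congrArg (fun S : Module.End k V => S v) h0
        simp only [map_mul, Module.End.mul_apply, LinearMap.zero_apply] at this
        have h2 : aeval T a v ∈ LinearMap.ker (aeval T i) := this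
        rw [hker] at h2
        simpa using h2
      obtain ⟨f, hf, hfa, hf0⟩ := ih ha ha0
      exact ⟨f, hf, hfa.mul_left _, hf0⟩

theorem finrank_le_natDegree_of_irreducible {k V : Type*} [Field k] [AddCommGroup V] [Module k V]
    (T : Module.End k V)
    (hirr : ∀ W : Submodule k V, (∀ v ∈ W, T v ∈ W) → W = ⊥ ∨ W = ⊤) (f : k[X]) (hf : f ≠ 0)
    (h0 : aeval T f = 0) : Module.finrank k V ≤ f.natDegree := by
  rcases subsingleton_or_nontrivial V with hV | hV
  · rw [Module.finrank_zero_of_subsingleton]; exact Nat.zero_le _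
  obtain ⟨v, hv⟩ := exists_ne (0 : V)
  let φ : k[X] →ₗ[k] V := (LinearMap.applyₗ v).comp (aeval T).toLinearMap
  have hφ : ∀ g, φ g = aeval T g v := fun g => rfl
  have hrange : LinearMap.range φ = ⊤ := by
    refine (hirr _ ?_).resolve_left ?_
    · rintro _ ⟨g, rfl⟩
      exact ⟨X * g, by simp [hφ]⟩
    · intro h
      have : v ∈ LinearMap.range φ := ⟨1, by simp [hφ]⟩
      rw [h] at this
      exact hv (by simpa using this)
  let ψ : degreeLT k f.natDegree →ₗ[k] V := φ.comp (Submodule.subtype _)
  have hψ : Function.Surjective ψ := by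
    intro w
    obtain ⟨g, rfl⟩ : w ∈ LinearMap.range φ := by rw [hrange]; trivial
    refine ⟨⟨g % f, ?_⟩, ?_⟩
    · rw [mem_degreeLT, ← degree_eq_natDegree hf]
      exact degree_mod_lt g hf
    · show φ (g % f) = φ g
      conv_rhs => rw [← EuclideanDomain.div_add_mod g f, mul_comm]
      rw [map_add, hφ (g / f * f), map_mul, h0]
      simp
  have := LinearMap.finrank_le_finrank_of_surjective hψ
  rwa [(degreeLTEquiv k f.natDegree).finrank_eq, Module.finrank_fin_fun] at this

theorem finrank_le_of_irreducible_pow {k V : Type*} [Field k] [Finite k] [AddCommGroup V]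
    [Module k V] (T : Module.End k V)
    (hirr : ∀ W : Submodule k V, (∀ v ∈ W, T v ∈ W) → W = ⊥ ∨ W = ⊤) {d : ℕ} (hd : d ≠ 0)
    (hT : T ^ (Nat.card k ^ d) = T) : Module.finrank k V ≤ d := by
  rcases subsingleton_or_nontrivial V with hV | hV
  · rw [Module.finrank_zero_of_subsingleton]; exact Nat.zero_le _
  have hne : (X ^ (Nat.card k) ^ d - X : k[X]) ≠ 0 :=
    FiniteField.X_pow_card_pow_sub_X_ne_zero _ hd Finite.one_lt_card
  obtain ⟨f, hf, hfd, hf0⟩ := exists_irreducible_aeval_eq_zero T hirr _ hne (by simp [hT])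
  exact (finrank_le_natDegree_of_irreducible T hirr f hf.ne_zero hf0).trans
    (Nat.le_of_dvd (Nat.pos_of_ne_zero hd) (hf.natDegree_dvd_of_dvd_X_pow_card_pow_sub_X hfd))

open CfsgLib.PLocal in
/-- An element `x` with `x ^ p = 1` acting irreducibly and non-trivially on the elementary abelian
`q`-group `A`: then `|A| = q ^ d`, `d` the order of `q` modulo `p`. -/
theorem card_eq_pow_orderOf_of_irreducible {G : Type*} [Group G] [Finite G] {p q : ℕ}
    [hp : Fact p.Prime] (hq : q.Prime) (hpq : q ≠ p) {A : Subgroup G}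
    (hA : Cfsg.IsElementaryAbelian q A) {x : G} (hx : x ∈ Subgroup.normalizer (A : Set G))
    (hxp : x ^ p = 1) (hxc : x ∉ Subgroup.centralizer (A : Set G))
    (hirr : ∀ B : Subgroup G, B ≤ A → (∀ b ∈ B, x * b * x⁻¹ ∈ B) → B = ⊥ ∨ B = A) :
    Nat.card A = q ^ orderOf (q : ZMod p) := by
  haveI : Fact q.Prime := ⟨hq⟩
  set n := Module.finrank (ZMod q) (ElemMod hA) with hn
  have hcard : Nat.card A = q ^ n := ElemMod.card_eq_pow_finrank
  have hq0 : (q : ZMod p) ≠ 0 := by
    rw [Ne, ZMod.natCast_eq_zero_iff]
    intro h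
    exact hpq ((Nat.prime_dvd_prime_iff_eq hp.out hq).1 h).symm
  have hd : orderOf (q : ZMod p) ≠ 0 := by
    have : orderOf (q : ZMod p) ∣ p - 1 := ZMod.orderOf_dvd_card_sub_one hq0
    intro h
    rw [h, zero_dvd_iff] at this
    have := hp.out.two_le
    omega
  have hC : A ⊓ Subgroup.centralizer {x} = ⊥ := by
    refine (hirr _ inf_le_left ?_).resolve_right ?_
    · intro b hb
      have := Subgroup.mem_centralizer_singleton_iff.1 (Subgroup.mem_inf.1 hb).2
      rw [← this, mul_inv_cancel_right]
      exact hb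
    · intro h
      apply hxc
      intro a ha
      rw [← h] at ha
      exact Subgroup.mem_centralizer_singleton_iff.1 (Subgroup.mem_inf.1 ha).2
  have hmod := CfsgLib.Transfer.card_modEq_card_inf_centralizer (q := p) hx ⟨1, by simpa using hxp⟩
  rw [hC, Subgroup.card_bot, hcard] at hmod
  have hdn : orderOf (q : ZMod p) ∣ n := by
    apply orderOf_dvd_of_pow_eq_one
    have := (ZMod.natCast_eq_natCast_iff _ _ _).2 hmod
    simpa using this
  have hn0 : n ≠ 0 := by
    intro h
    rw [h, pow_zero, Subgroup.card_eq_one] at hcard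
    apply hxc
    intro a ha
    rw [hcard] at ha
    rw [Subgroup.mem_bot.1 ha, one_mul, mul_one]
  have hle : n ≤ orderOf (q : ZMod p) := by
    let xx : (Subgroup.normalizer (A : Set G)) := ⟨x, hx⟩
    refine finrank_le_of_irreducible_pow (ElemMod.rep hA le_rfl xx) ?_ hd ?_
    · intro W hW
      have := hirr (ElemMod.toSubgroup W) (ElemMod.toSubgroup_le W) (by
        rintro _ ⟨w, hw, rfl⟩
        exact ⟨_, hW w hw, rfl⟩)
      rcases this with h | h
      · left
        rw [eq_bot_iff]
        intro w hw
        have h2 : w.toG ∈ ElemMod.toSubgroup W := ElemMod.toG_mem_toSubgroup.2 hw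
        rw [h] at h2
        exact ElemMod.toG_eq_one.1 (Subgroup.mem_bot.1 h2)
      · right
        rw [eq_top_iff]
        intro w _
        apply ElemMod.toG_mem_toSubgroup.1
        rw [h]
        exact w.toG_mem
    · rw [← map_pow, Nat.card_zmod]
      congr 1
      apply Subtype.ext
      show x ^ q ^ orderOf (q : ZMod p) = x
      have h1 : q ^ orderOf (q : ZMod p) ≡ 1 [MOD p] := by
        rw [← ZMod.natCast_eq_natCast_iff]
        simp [pow_orderOf_eq_one]
      have h2 : q ^ orderOf (q : ZMod p) ≡ 1 [MOD orderOf x] :=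
        h1.of_dvd (orderOf_dvd_of_pow_eq_one hxp)
      conv_rhs => rw [← pow_one x]
      exact pow_eq_pow_iff_modEq.2 h2
  rw [hcard, le_antisymm hle (Nat.le_of_dvd (Nat.pos_of_ne_zero hn0) hdn)]

end CfsgLib.Fgs
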