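import Mathlib
import Cfsg.Prelude.Def_LocalStructure
import Cfsg.Agent.Lib.Fgs.IrredCyc
import Cfsg.Agent.Lib.Coprime.Sylow
import Cfsg.Agent.Lib.Coprime.Action
import Cfsg.Agent.Lib.Core.MinNormal

/-!
Lemmas for minimal non-`p`-closed groups.
-/

set_option autoImplicit false

namespace CfsgLib.Fgs

variable {G : Type*} [Group G]

theorem mem_centralizer_of_normalize_coprime [Finite G] {p : ℕ} [hp : Fact p.Prime]
    {E Q : Subgroup G} (hE : IsPGroup p E) (hQ : ¬ p ∣ Nat.card Q)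
    (hQE : Q ≤ Subgroup.normalizer (E : Set G)) {x : G} (hx : x ∈ E)
    (hxQ : x ∈ Subgroup.normalizer (Q : Set G)) : x ∈ Subgroup.centralizer (Q : Set G) := by
  intro y hy
  have hy : y ∈ Q := hy
  have h1 : y * x * y⁻¹ * x⁻¹ ∈ E :=
    E.mul_mem ((Subgroup.mem_normalizer_iff.1 (hQE hy) x).1 hx) (E.inv_mem hx)
  have h2 : y * x * y⁻¹ * x⁻¹ ∈ Q := by
    have := Q.mul_mem hy ((Subgroup.mem_normalizer_iff.1 hxQ y⁻¹).1 (Q.inv_mem hy))
    simpa [mul_assoc] using this
  have hd : Disjoint E Q := by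
    obtain ⟨k, hk⟩ := hE.exists_card_eq
    rw [disjoint_iff]
    apply Subgroup.inf_eq_bot_of_coprime
    rw [hk]
    exact ((Nat.Prime.coprime_iff_not_dvd hp.out).2 hQ).pow_left k
  have h3 := (Subgroup.disjoint_def.1 hd) h1 h2
  rw [mul_inv_eq_one, mul_inv_eq_iff_eq_mul] at h3
  exact h3

theorem isPGroup_zpowers_of_pow {p k : ℕ} {x : G} (hx : x ^ p ^ k = 1) :
    IsPGroup p (Subgroup.zpowers x) := by
  rintro ⟨_, m, rfl⟩
  refine ⟨k, Subtype.ext ?_⟩
  show (x ^ m) ^ p ^ k = 1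
  rw [← zpow_natCast, ← zpow_mul, mul_comm, zpow_mul, zpow_natCast, hx, one_zpow]

/-- In a `p`-closed subgroup `H`, a `p`-element centralizes the `p'`-subgroups it normalizes. -/
theorem mem_centralizer_of_isPClosed [Finite G] {p : ℕ} [hp : Fact p.Prime] {H Q : Subgroup G}
    (hH : Cfsg.IsPClosed p H) (hQ : ¬ p ∣ Nat.card Q) (hQH : Q ≤ H) {x : G} {k : ℕ} (hx : x ∈ H)
    (hxp : x ^ p ^ k = 1) (hxQ : x ∈ Subgroup.normalizer (Q : Set G)) :
    x ∈ Subgroup.centralizer (Q : Set G) := by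
  have h1 : IsPGroup p (Subgroup.zpowers (⟨x, hx⟩ : H)) :=
    isPGroup_zpowers_of_pow (k := k) (Subtype.ext hxp)
  obtain ⟨P, hP⟩ := h1.exists_le_sylow
  have hn := hH P
  refine mem_centralizer_of_normalize_coprime (E := (P : Subgroup H).map H.subtype)
    (P.2.map _) hQ ?_ ⟨⟨x, hx⟩, hP (Subgroup.mem_zpowers _), rfl⟩ hxQ
  intro y hy
  rw [Subgroup.mem_normalizer_iff]
  intro z
  constructor
  · rintro ⟨w, hw, rfl⟩
    exact ⟨_, hn.conj_mem w hw ⟨y, hQH hy⟩, rfl⟩
  · rintro ⟨w, hw, hwz⟩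
    refine ⟨_, hn.conj_mem w hw ⟨y, hQH hy⟩⁻¹, ?_⟩
    have hwz' : (w : G) = y * z * y⁻¹ := hwz
    simp [hwz', mul_assoc]

theorem normal_of_invariant_of_comm {A B : Subgroup G} [Finite G] (hA : IsMulCommutative A)
    {x : G} (hsup : A ⊔ Subgroup.zpowers x = ⊤) (hBA : B ≤ A) (hB : ∀ b ∈ B, x * b * x⁻¹ ∈ B) :
    B.Normal := by
  rw [← Subgroup.normalizer_eq_top_iff, eq_top_iff, ← hsup]
  refine sup_le ?_ (Subgroup.zpowers_le.2 (Subgroup.mem_normalizer_fintype hB))
  intro a ha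
  apply Subgroup.mem_normalizer_fintype
  intro b hb
  have : a * b = b * a := congrArg Subtype.val (hA.is_comm.comm ⟨a, ha⟩ ⟨b, hBA hb⟩)
  rw [this, mul_inv_cancel_right]
  exact hb

theorem minimal_nonclosed_structure [Finite G] {p : ℕ} [hp : Fact p.Prime] {N : Subgroup G}
    [N.Normal] (hmin : ∀ B : Subgroup G, B.Normal → B ≤ N → B = ⊥ ∨ B = N)
    (hN : ¬ p ∣ Nat.card N) {x : G} (hxp : x ^ p = 1) (hsup : N ⊔ Subgroup.zpowers x = ⊤)
    (hxc : x ∉ Subgroup.centralizer (N : Set G))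
    (hsub : ∀ Q : Subgroup G, Q < N → x ∈ Subgroup.normalizer (Q : Set G) →
      x ∈ Subgroup.centralizer (Q : Set G)) :
    ∃ q : ℕ, q.Prime ∧ q ≠ p ∧ Nat.card G = p * q ^ orderOf (q : ZMod p) ∧
      ∃ A : Subgroup G, A.Normal ∧ Nat.card ↥A = q ^ orderOf (q : ZMod p) ∧
        Cfsg.IsElementaryAbelian q A ∧ ∀ B : Subgroup G, B.Normal → B ≤ A → B = ⊥ ∨ B = A := by
  have hx1 : x ≠ 1 := by rintro rfl; exact hxc (Subgroup.one_mem _)
  have hox : orderOf x = p := orderOf_eq_prime hxp hx1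
  have hcz : Nat.card (Subgroup.zpowers x) = p := by rw [Nat.card_zpowers, hox]
  have hcop : (Nat.card (Subgroup.zpowers x)).Coprime (Nat.card N) := by
    rw [hcz]; exact (Nat.Prime.coprime_iff_not_dvd hp.out).2 hN
  have hN0 : N ≠ ⊥ := by
    rintro rfl
    exact hxc (fun y hy => by rw [Subgroup.mem_bot.1 hy, one_mul, mul_one])
  have hsolv : Group.IsSolvable N := by
    by_contra hns
    apply hxc
    have : N ⊓ Subgroup.centralizer {x} = N := by
      apply CfsgLib.Coprime.eq_of_forall_sylow_le inf_le_left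
      intro q hq _
      haveI : Fact q.Prime := ⟨hq⟩
      obtain ⟨Q, hQN, hQq, hQi, hxQ⟩ := CfsgLib.Coprime.exists_invariant_sylow' q
        (K := N) (A := Subgroup.zpowers x) (by rw [Subgroup.normalizer_eq_top]; exact le_top) hcop
        (Or.inl (CfsgLib.Coprime.isSolvable_zpowers x))
      refine ⟨Q, le_inf hQN ?_, hQi⟩
      have hlt : Q < N := lt_of_le_of_ne hQN (by
        rintro rfl
        exact hns (CfsgLib.Coprime.isSolvable_of_isPGroup hQq))
      intro y hy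
      exact Subgroup.mem_centralizer_singleton_iff.2
        (hsub Q hlt (hxQ (Subgroup.mem_zpowers x)) y hy)
    intro y hy
    rw [← this] at hy
    exact Subgroup.mem_centralizer_singleton_iff.1 (Subgroup.mem_inf.1 hy).2
  obtain ⟨q, hq, hNq⟩ := CfsgLib.Core.isElementaryAbelian_of_minimal_normal hN0 hmin
  haveI : Fact q.Prime := ⟨hq⟩
  have hqp : q ≠ p := by
    rintro rfl
    exact hN (CfsgLib.Core.dvd_card_of_isPGroup_of_ne_bot
      (CfsgLib.Core.isElementaryAbelian_isPGroup hNq) hN0)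
  have hcard : Nat.card N = q ^ orderOf (q : ZMod p) :=
    card_eq_pow_orderOf_of_irreducible hq hqp hNq (by rw [Subgroup.normalizer_eq_top]; trivial)
      hxp hxc (fun B hB hBx => hmin B (normal_of_invariant_of_comm hNq.1 hsup hB hBx) hB)
  refine ⟨q, hq, hqp, ?_, N, inferInstance, hcard, hNq, hmin⟩
  have hc : N.IsComplement' (Subgroup.zpowers x) := by
    apply Subgroup.isComplement'_of_disjoint_and_mul_eq_univ
    · rw [disjoint_iff]; exact Subgroup.inf_eq_bot_of_coprime hcop.symm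
    · rw [← Subgroup.normal_mul, hsup, Subgroup.coe_top]
  rw [← hc.card_mul, hcz, hcard, mul_comm]

theorem isPClosed_of_isPGroup {p : ℕ} (h : IsPGroup p G) : Cfsg.IsPClosed p G := by
  intro P
  have : (P : Subgroup G) = ⊤ := (P.is_maximal' (h.to_subgroup ⊤) le_top).symm
  rw [this]; infer_instance

theorem isPClosed_of_not_dvd [Finite G] {p : ℕ} [Fact p.Prime] (h : ¬ p ∣ Nat.card G) :
    Cfsg.IsPClosed p G := by
  intro P
  have : (P : Subgroup G) = ⊥ := by
    by_contra h0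
    exact h ((CfsgLib.Core.dvd_card_of_isPGroup_of_ne_bot P.2 h0).trans
      (Subgroup.card_subgroup_dvd_card _))
  rw [this]; infer_instance

theorem isPClosed_of_normal_sylow [Finite G] {p : ℕ} [Fact p.Prime] (P : Sylow p G)
    (h : (P : Subgroup G).Normal) : Cfsg.IsPClosed p G := by
  haveI := Sylow.unique_of_normal P h
  intro Q
  rw [Subsingleton.elim Q P]; exact h

theorem isPClosed_of_quotient [Finite G] {p : ℕ} [Fact p.Prime] (N : Subgroup G) [N.Normal]
    (hN : IsPGroup p N) (h : Cfsg.IsPClosed p (G ⧸ N)) : Cfsg.IsPClosed p G := by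
  intro P
  have h1 := h (P.mapSurjective (QuotientGroup.mk'_surjective N))
  have h2 : (((P : Subgroup G).map (QuotientGroup.mk' N)).comap (QuotientGroup.mk' N)).Normal :=
    Subgroup.Normal.comap h1 _
  rwa [Subgroup.comap_map_eq, QuotientGroup.ker_mk', sup_eq_left.2 (hN.le_sylow_of_normal P)] at h2

end CfsgLib.Fgs
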