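import Mathlib
import Cfsg.Prelude.Def_Transfer
import Cfsg.Agent.S3889
import Cfsg.Agent.Lib.Core.Fitting
import Cfsg.Agent.Lib.Block.PPart

/-!
# Minimal covers of finite groups by nilpotent subgroups
-/

set_option autoImplicit false

open scoped Pointwise

namespace CfsgLib.Fgs

variable {G : Type*} [Group G]

/-- A minimal cover of `G` by proper subgroups, all of whose members are nilpotent. -/
def IsNilMinCover (𝓐 : Finset (Subgroup G)) : Prop :=
  ((∀ A ∈ 𝓐, A ≠ ⊤) ∧ (∀ g : G, ∃ A ∈ 𝓐, g ∈ A)) ∧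
    (∀ 𝓑 : Finset (Subgroup G), (∀ A ∈ 𝓑, A ≠ ⊤) ∧ (∀ g : G, ∃ A ∈ 𝓑, g ∈ A) → 𝓐.card ≤ 𝓑.card) ∧
    (∀ A ∈ 𝓐, Group.IsNilpotent ↥A)

/-- Two members of a minimal cover inside a proper subgroup coincide. -/
theorem nilCover_eq_of_le {𝓐 : Finset (Subgroup G)} (h : IsNilMinCover 𝓐) {A A' B : Subgroup G}
    (hA : A ∈ 𝓐) (hA' : A' ∈ 𝓐) (hAB : A ≤ B) (hA'B : A' ≤ B) (hB : B ≠ ⊤) : A = A' := by
  classical
  by_contra hne
  have h1 := h.2.1 (insert B ((𝓐.erase A).erase A')) ⟨?_, ?_⟩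
  · have h2 : A' ∈ 𝓐.erase A := Finset.mem_erase.2 ⟨Ne.symm hne, hA'⟩
    have h3 := Finset.card_insert_le B ((𝓐.erase A).erase A')
    rw [Finset.card_erase_of_mem h2, Finset.card_erase_of_mem hA] at h3
    have h4 := Finset.card_pos.2 ⟨_, h2⟩
    rw [Finset.card_erase_of_mem hA] at h4
    omega
  · intro C hC
    rcases Finset.mem_insert.1 hC with rfl | hC
    · exact hB
    · exact h.1.1 C (Finset.mem_of_mem_erase (Finset.mem_of_mem_erase hC))
  · intro g
    obtain ⟨C, hC, hg⟩ := h.1.2 g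
    by_cases h1 : C = A
    · exact ⟨B, Finset.mem_insert_self _ _, hAB (h1 ▸ hg)⟩
    by_cases h2 : C = A'
    · exact ⟨B, Finset.mem_insert_self _ _, hA'B (h2 ▸ hg)⟩
    exact ⟨C, Finset.mem_insert_of_mem (Finset.mem_erase.2 ⟨h2, Finset.mem_erase.2 ⟨h1, hC⟩⟩), hg⟩

/-- A criterion for the absence of nilpotent minimal covers. -/
theorem not_isNilMinCover_of_pair {B : Subgroup G} (hB : B ≠ ⊤) (x y : G)
    (hx : ∀ A : Subgroup G, Group.IsNilpotent A → x ∈ A → A ≤ B)
    (hy : ∀ A : Subgroup G, Group.IsNilpotent A → y ∈ A → A ≤ B)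
    (hxy : ∀ A : Subgroup G, Group.IsNilpotent A → x ∈ A → y ∉ A) (𝓐 : Finset (Subgroup G)) :
    ¬ IsNilMinCover 𝓐 := by
  intro h
  obtain ⟨A, hA, hxA⟩ := h.1.2 x
  obtain ⟨A', hA', hyA⟩ := h.1.2 y
  have := nilCover_eq_of_le h hA hA' (hx A (h.2.2 A hA) hxA) (hy A' (h.2.2 A' hA') hyA) hB
  exact hxy A (h.2.2 A hA) hxA (this ▸ hyA)

/-- With abelian Sylow `p`-subgroups a nilpotent subgroup centralizes its `p`-subgroups. -/
theorem le_centralizer_of_abelian_sylow [Finite G] {p : ℕ} [Fact p.Prime]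
    (hab : ∀ Q : Sylow p G, IsMulCommutative (Q : Subgroup G)) {A X : Subgroup G}
    [Group.IsNilpotent A] (hX : IsPGroup p X) (hXA : X ≤ A) :
    A ≤ Subgroup.centralizer (X : Set G) := by
  have h1 := congrArg (Subgroup.map A.subtype)
    (CfsgLib.Core.pCore_sup_pPrimeCore_of_isNilpotent (G := A) (Fact.out : p.Prime))
  rw [Subgroup.map_sup, ← MonoidHom.range_eq_map, Subgroup.range_subtype] at h1
  rw [← h1]
  refine sup_le ?_ ?_
  · have h2 : X ≤ (Cfsg.pCore p A).map A.subtype := by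
      have := CfsgLib.Core.le_pCore_of_isNilpotent (hX.comap_subtype (K := A))
      intro x hx
      exact ⟨⟨x, hXA hx⟩, this hx, rfl⟩
    obtain ⟨Q, hQ⟩ := (CfsgLib.Core.isPGroup_map_pCore (p := p) A).exists_le_sylow
    intro a ha x hx
    exact CfsgLib.Core.isMulCommutative_iff_forall.1 (hab Q) x (hQ (h2 hx)) a (hQ ha)
  · refine CfsgLib.Core.le_centralizer_of_coprime_of_le_isNilpotent (N := A)
      (Subgroup.map_subtype_le _) hXA ?_
    rw [CfsgLib.Core.card_map_subtype]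
    exact (CfsgLib.Core.isPGroup_coprime_card hX (CfsgLib.Core.coprime_card_pPrimeCore p A)).symm

theorem sylow_isMulCommutative [Finite G] {p : ℕ} [Fact p.Prime] (P : Sylow p G)
    (hab : IsMulCommutative (P : Subgroup G)) (Q : Sylow p G) :
    IsMulCommutative (Q : Subgroup G) :=
  ⟨⟨fun a b => (Q.equiv P).injective (by rw [map_mul, map_mul]; exact hab.is_comm.comm _ _)⟩⟩

/-- Two members of a nilpotent minimal cover of a centreless group with abelian Sylow
`p`-subgroups that share a nontrivial `p`-element coincide. -/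
theorem nilCover_eq_of_pElt [Finite G] (hZ : Subgroup.center G = ⊥) {𝓐 : Finset (Subgroup G)}
    (h : IsNilMinCover 𝓐) {p : ℕ} [Fact p.Prime]
    (hab : ∀ Q : Sylow p G, IsMulCommutative (Q : Subgroup G)) {A A' X : Subgroup G}
    (hA : A ∈ 𝓐) (hA' : A' ∈ 𝓐) (hX : IsPGroup p X) (hX1 : X ≠ ⊥) (hXA : X ≤ A) (hXA' : X ≤ A') :
    A = A' := by
  have := h.2.2 A hA
  have := h.2.2 A' hA'
  refine nilCover_eq_of_le h hA hA' (le_centralizer_of_abelian_sylow hab hX hXA)
    (le_centralizer_of_abelian_sylow hab hX hXA') fun htop => hX1 ?_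
  rw [eq_bot_iff, ← hZ]
  exact Subgroup.centralizer_eq_top_iff_subset.1 htop

open scoped IsMulCommutative in
theorem nilCover_exists_sylow_le [Finite G] (hZ : Subgroup.center G = ⊥) {𝓐 : Finset (Subgroup G)}
    (h : IsNilMinCover 𝓐) {p : ℕ} [Fact p.Prime] (P : Sylow p G)
    (hab : IsMulCommutative (P : Subgroup G))
    (hne : ¬ (Cfsg.IsElementaryAbelian p (P : Subgroup G) ∧ p < Nat.card ↥(P : Subgroup G)))
    (Q : Sylow p G) : ∃ A ∈ 𝓐, (Q : Subgroup G) ≤ A := by
  have hp : p.Prime := Fact.out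
  have hab' := sylow_isMulCommutative P hab
  by_contra hcon
  push Not at hcon
  have hQ := hab' Q
  have h1 := Cfsg.Agent.S3889.result (G := (Q : Subgroup G))
    ((fun A : Subgroup G => A.subgroupOf Q) '' (𝓐 : Set (Subgroup G))) ?_ ?_ ?_
  · have h2 : Monoid.exponent (Q : Subgroup G) = p := by
      obtain ⟨k, hk⟩ := isPGroup_iff_exponent_eq_pow.1 Q.isPGroup'
      have := h1.dvd_of_dvd_pow (dvd_of_eq hk)
      exact (Nat.prime_dvd_prime_iff_eq h1 hp).1 this
    apply hne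
    refine ⟨⟨hab, fun a ha => ?_⟩, ?_⟩
    · have := Monoid.pow_exponent_eq_one (P.equiv Q ⟨a, ha⟩)
      rw [h2, ← map_pow, map_eq_one_iff _ (P.equiv Q).injective] at this
      exact congrArg Subtype.val this
    · rw [Nat.card_congr (P.equiv Q).toEquiv]
      by_contra hle
      push Not at hle
      have h3 : Nat.card (Q : Subgroup G) = p :=
        le_antisymm hle (Nat.le_of_dvd Nat.card_pos (h2.symm.dvd.trans Group.exponent_dvd_nat_card))
      have : IsCyclic (Q : Subgroup G) := isCyclic_of_prime_card h3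
      obtain ⟨g, hg⟩ := IsCyclic.exists_generator (α := (Q : Subgroup G))
      obtain ⟨A, hA, hgA⟩ := h.1.2 g
      refine hcon A hA fun x hx => ?_
      obtain ⟨k, hk⟩ := hg ⟨x, hx⟩
      have : x = (g : G) ^ k := congrArg Subtype.val hk.symm
      rw [this]
      exact A.zpow_mem hgA k
  · rintro _ ⟨A, hA, rfl⟩ htop
    exact hcon A hA (Subgroup.subgroupOf_eq_top.1 htop)
  · intro g
    obtain ⟨A, hA, hgA⟩ := h.1.2 g
    exact ⟨_, ⟨A, hA, rfl⟩, hgA⟩
  · rintro _ ⟨A, hA, rfl⟩ _ ⟨A', hA', rfl⟩ hne'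
    by_contra hbot
    apply hne'
    have : A = A' := by
      refine nilCover_eq_of_pElt hZ h hab' hA hA' (X := A ⊓ A' ⊓ Q) Q.isPGroup'.to_inf_right ?_
        (inf_le_left.trans inf_le_left) (inf_le_left.trans inf_le_right)
      intro hb
      apply hbot
      rw [eq_bot_iff]
      intro x hx
      have : (x : G) ∈ A ⊓ A' ⊓ Q := ⟨⟨hx.1, hx.2⟩, x.2⟩
      rw [hb] at this
      exact Subtype.ext this
    rw [this]

theorem nilCover_centralizer_eq [Finite G] (hZ : Subgroup.center G = ⊥) {𝓐 : Finset (Subgroup G)}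
    (h : IsNilMinCover 𝓐) {p : ℕ} [Fact p.Prime] (P : Sylow p G)
    (hab : IsMulCommutative (P : Subgroup G)) (hP1 : (P : Subgroup G) ≠ ⊥) {A : Subgroup G}
    (hA : A ∈ 𝓐) (hPA : (P : Subgroup G) ≤ A) :
    Subgroup.centralizer ((P : Subgroup G) : Set G) = A := by
  have hp : p.Prime := Fact.out
  have hab' := sylow_isMulCommutative P hab
  have := h.2.2 A hA
  refine le_antisymm ?_ (le_centralizer_of_abelian_sylow hab' P.isPGroup' hPA)
  intro c hc
  set C := Subgroup.centralizer ((P : Subgroup G) : Set G)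
  obtain ⟨u, hu⟩ := CfsgLib.Block.exists_isPPart hp c
  have huc : u ∈ C := CfsgLib.Block.isPPart_mem hp hu hc
  have huP : u ∈ (P : Subgroup G) := by
    have h1 : IsPGroup p (Subgroup.zpowers u) :=
      CfsgLib.Block.isPGroup_zpowers_of_pElt hp (CfsgLib.Block.isPPart_pElt hu)
    have h2 := IsPGroup.inf_normalizer_sylow h1 P
    have h3 : u ∈ Subgroup.zpowers u ⊓ Subgroup.normalizer (P : Set G) :=
      ⟨Subgroup.mem_zpowers u, Subgroup.centralizer_le_normalizer _ huc⟩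
    rw [h2] at h3
    exact h3.2
  obtain ⟨d, hcd, hud, -, hd⟩ := hu
  have hdC : d ∈ C := by
    have : d = u⁻¹ * c := by rw [← hcd]; group
    rw [this]
    exact C.mul_mem (C.inv_mem huc) hc
  obtain ⟨x, hxP, hx1⟩ := (Subgroup.ne_bot_iff_exists_ne_one.1 hP1).imp' Subtype.val
    (p := fun x : (P : Subgroup G) => x ≠ 1) (q := fun x : G => x ∈ (P : Subgroup G) ∧ x ≠ 1)
    (fun x hx => ⟨x.2, fun h => hx (Subtype.ext h)⟩)
  obtain ⟨A', hA', hxd⟩ := h.1.2 (x * d)
  have hcomm : Commute x d := hdC x hxP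
  obtain ⟨k, hk⟩ := CfsgLib.Block.pElt_of_mem_isPGroup hp P.isPGroup' hxP
  have hcop : (orderOf x).Coprime (orderOf d) := CfsgLib.Block.coprime_of_pow_of_not_dvd hp hk hd
  have hxA' : x ∈ A' :=
    Subgroup.zpowers_le.2 hxd (CfsgLib.Block.mem_zpowers_mul_of_coprime hcomm hcop)
  have hdA' : d ∈ A' := by simpa using A'.mul_mem (A'.inv_mem hxA') hxd
  have : A = A' := nilCover_eq_of_pElt hZ h hab' hA hA' (X := Subgroup.zpowers x)
    (P.isPGroup'.to_le (Subgroup.zpowers_le.2 hxP)) (by simpa using hx1)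
    (Subgroup.zpowers_le.2 (hPA hxP)) (Subgroup.zpowers_le.2 hxA')
  rw [← hcd]
  exact A.mul_mem (hPA huP) (this ▸ hdA')

theorem sylow_eq_of_le_normalizer {p : ℕ} (P Q : Sylow p G)
    (h : (Q : Subgroup G) ≤ Subgroup.normalizer ((P : Subgroup G) : Set G)) : Q = P := by
  have h2 := IsPGroup.inf_normalizer_sylow Q.isPGroup' P
  have h3 : (Q : Subgroup G) ≤ P := by
    rw [← inf_eq_left, ← h2]
    exact inf_eq_left.2 h
  exact Sylow.ext (Q.is_maximal' P.isPGroup' h3).symm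

/-- The structure of an abelian Sylow subgroup that is not elementary abelian of order `> p`. -/
theorem nilCover_structure [Finite G] (hZ : Subgroup.center G = ⊥) {𝓐 : Finset (Subgroup G)}
    (h : IsNilMinCover 𝓐) {p : ℕ} [Fact p.Prime] (P : Sylow p G)
    (hab : IsMulCommutative (P : Subgroup G)) (hnn : ¬ (P : Subgroup G).Normal)
    (hne : ¬ (Cfsg.IsElementaryAbelian p (P : Subgroup G) ∧ p < Nat.card ↥(P : Subgroup G))) :
    Subgroup.centralizer ((P : Subgroup G) : Set G) ∈ 𝓐 ∧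
      (∀ M : Subgroup G, M ≠ ⊤ → Subgroup.centralizer ((P : Subgroup G) : Set G) ≤ M →
        M ≤ Subgroup.normalizer ((P : Subgroup G) : Set G)) ∧
      IsCoatom (Subgroup.normalizer ((P : Subgroup G) : Set G)) ∧
      ∀ Q : Sylow p G, (P : Subgroup G) ⊓ Q ≠ ⊥ → Q = P := by
  have hab' := sylow_isMulCommutative P hab
  have hP1 : (P : Subgroup G) ≠ ⊥ := fun hb => hnn (hb ▸ inferInstance)
  have hQ1 : ∀ Q : Sylow p G, (Q : Subgroup G) ≠ ⊥ := by
    intro Q hb
    apply hP1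
    rw [← Subgroup.card_eq_one] at hb ⊢
    rwa [Nat.card_congr (P.equiv Q).toEquiv]
  have hmem : ∀ Q : Sylow p G, Subgroup.centralizer ((Q : Subgroup G) : Set G) ∈ 𝓐 := by
    intro Q
    obtain ⟨A, hA, hQA⟩ := nilCover_exists_sylow_le hZ h P hab hne Q
    rwa [nilCover_centralizer_eq hZ h Q (hab' Q) (hQ1 Q) hA hQA]
  have hself : ∀ Q : Sylow p G,
      (Q : Subgroup G) ≤ Subgroup.centralizer ((Q : Subgroup G) : Set G) := fun Q =>
    have := hab' Q
    Subgroup.le_centralizer _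
  have hinj : ∀ Q : Sylow p G, Subgroup.centralizer ((Q : Subgroup G) : Set G) =
      Subgroup.centralizer ((P : Subgroup G) : Set G) → Q = P := fun Q hQ =>
    sylow_eq_of_le_normalizer P Q ((hself Q).trans (hQ.le.trans (Subgroup.centralizer_le_normalizer _)))
  have hmax : ∀ M : Subgroup G, M ≠ ⊤ → Subgroup.centralizer ((P : Subgroup G) : Set G) ≤ M →
      M ≤ Subgroup.normalizer ((P : Subgroup G) : Set G) := by
    intro M hM hCM m hm
    apply Sylow.smul_eq_iff_mem_normalizer.1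
    apply hinj
    refine nilCover_eq_of_le h (hmem _) (hmem _) ?_ hCM hM
    intro c hc
    have : m⁻¹ * c * m ∈ Subgroup.centralizer ((P : Subgroup G) : Set G) := by
      intro x hx
      have h1 : m * x * m⁻¹ ∈ ((m • P : Sylow p G) : Subgroup G) := by
        rw [Sylow.coe_subgroup_smul]
        exact Subgroup.smul_mem_pointwise_smul _ _ _ hx
      have h2 := hc _ h1
      calc x * (m⁻¹ * c * m) = m⁻¹ * (m * x * m⁻¹ * c) * m := by group
        _ = _ := by rw [h2]; group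
    have h3 := M.mul_mem (M.mul_mem hm (hCM this)) (M.inv_mem hm)
    simpa [mul_assoc] using h3
  refine ⟨hmem P, hmax, ⟨fun ht => hnn (Subgroup.normalizer_eq_top_iff.1 ht), fun M hM => ?_⟩, ?_⟩
  · by_contra hM1
    exact hM.not_ge (hmax M hM1 ((Subgroup.centralizer_le_normalizer _).trans hM.le))
  · intro Q hQ
    apply hinj
    exact nilCover_eq_of_pElt hZ h hab' (hmem Q) (hmem P) P.isPGroup'.to_inf_left hQ
      (inf_le_right.trans (hself Q)) (inf_le_left.trans (hself P))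

end CfsgLib.Fgs
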