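import Mathlib
import Cfsg.Agent.Lib.Fgs.NilCover
import Cfsg.Agent.S3893

/-!
# Nilpotent minimal covers of permutation groups with elements having a unique fixed point
-/

set_option autoImplicit false

namespace CfsgLib.Fgs

open MulAction

variable {G Ω : Type*} [Group G] [MulAction G Ω]

theorem le_stabilizer_of_unique_fixed {A : Subgroup G} (hA : Group.IsNilpotent A) {x : G}
    (hx : x ∈ A) {ω : Ω} (hω : ∀ α : Ω, x • α = α ↔ α = ω) : A ≤ stabilizer G ω := by
  apply Cfsg.Agent.S3893.le_of_nil hA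
  intro g _ hg
  have h1 := (Subgroup.mem_normalizer_iff.1 (inv_mem hg) x).1
    (Subgroup.mem_inf.2 ⟨hx, (hω ω).2 rfl⟩)
  have h2 : (g⁻¹ * x * g⁻¹⁻¹) • ω = ω := (Subgroup.mem_inf.1 h1).2
  rw [inv_inv, mul_smul, mul_smul, inv_smul_eq_iff] at h2
  exact (hω _).1 h2

theorem not_isNilMinCover_of_stabilizers [Finite Ω] [Nontrivial Ω] (u : Ω → G)
    (hu : ∀ ω α : Ω, u ω • α = α ↔ α = ω) (y : G)
    (hy1 : ∀ A : Subgroup G, Group.IsNilpotent A → y ∈ A → ∀ ω, u ω ∉ A)
    (hy2 : ∀ A : Subgroup G, Group.IsNilpotent A → y ∈ A → ∀ a ∈ A,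
      (∃ ω : Ω, a • ω = ω) ∨ ∃ z, a ∈ Subgroup.zpowers z ∧ z ∉ A)
    (𝓐 : Finset (Subgroup G)) : ¬ IsNilMinCover 𝓐 := by
  classical
  intro h
  have := Fintype.ofFinite Ω
  choose f hf hfu using fun ω => h.1.2 (u ω)
  have hfle : ∀ ω, f ω ≤ stabilizer G ω := fun ω =>
    le_stabilizer_of_unique_fixed (h.2.2 _ (hf ω)) (hfu ω) (hu ω)
  have hinj : Function.Injective f := by
    intro a b hab
    have h1 : u a • b = b := hfle b (hab ▸ hfu a)
    exact ((hu a b).1 h1).symm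
  obtain ⟨A0, hA0, hyA⟩ := h.1.2 y
  have hA0f : A0 ∉ Finset.univ.image f := by
    intro h1
    obtain ⟨ω, -, rfl⟩ := Finset.mem_image.1 h1
    exact hy1 _ (h.2.2 _ hA0) hyA ω (hfu ω)
  have hsub : insert A0 (Finset.univ.image f) ⊆ 𝓐 := by
    intro C hC
    rcases Finset.mem_insert.1 hC with rfl | hC
    · exact hA0
    · obtain ⟨ω, -, rfl⟩ := Finset.mem_image.1 hC
      exact hf ω
  have h1 := h.2.1 ((𝓐 \ insert A0 (Finset.univ.image f)) ∪
    Finset.univ.image (fun ω : Ω => stabilizer G ω)) ⟨?_, ?_⟩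
  · have h2 := Finset.card_union_le (𝓐 \ insert A0 (Finset.univ.image f))
      (Finset.univ.image (fun ω : Ω => stabilizer G ω))
    have h3 := Finset.card_image_le (s := (Finset.univ : Finset Ω)) (f := fun ω : Ω => stabilizer G ω)
    have h4 := Finset.card_sdiff_add_card_eq_card hsub
    rw [Finset.card_insert_of_notMem hA0f, Finset.card_image_of_injective _ hinj] at h4
    omega
  · intro C hC
    rcases Finset.mem_union.1 hC with hC | hC
    · exact h.1.1 C (Finset.mem_sdiff.1 hC).1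
    · obtain ⟨ω, -, rfl⟩ := Finset.mem_image.1 hC
      obtain ⟨α, hα⟩ := exists_ne ω
      intro ht
      have h1 : u α ∈ stabilizer G ω := by rw [ht]; trivial
      exact hα ((hu α ω).1 h1).symm
  · have hst : ∀ (g : G) (ω : Ω), g • ω = ω → ∃ A ∈ (𝓐 \ insert A0 (Finset.univ.image f)) ∪
        Finset.univ.image (fun ω : Ω => stabilizer G ω), g ∈ A := fun g ω hg =>
      ⟨stabilizer G ω, Finset.mem_union_right _ (Finset.mem_image_of_mem _ (Finset.mem_univ ω)), hg⟩
    have hne : ∀ g : G, ∀ C ∈ 𝓐, C ≠ A0 → g ∈ C → ∃ A ∈ (𝓐 \ insert A0 (Finset.univ.image f)) ∪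
        Finset.univ.image (fun ω : Ω => stabilizer G ω), g ∈ A := by
      intro g C hC hCA hg
      by_cases h1 : C ∈ Finset.univ.image f
      · obtain ⟨ω, -, rfl⟩ := Finset.mem_image.1 h1
        exact hst g ω (hfle ω hg)
      · exact ⟨C, Finset.mem_union_left _ (Finset.mem_sdiff.2 ⟨hC, fun h2 =>
          (Finset.mem_insert.1 h2).elim hCA h1⟩), hg⟩
    intro g
    obtain ⟨C, hC, hg⟩ := h.1.2 g
    by_cases hCA : C = A0
    · subst hCA
      rcases hy2 C (h.2.2 C hC) hyA g hg with ⟨ω, hω⟩ | ⟨z, hz1, hz2⟩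
      · exact hst g ω hω
      · obtain ⟨D, hD, hzD⟩ := h.1.2 z
        exact hne g D hD (fun e => hz2 (e ▸ hzD)) (Subgroup.zpowers_le.2 hzD hz1)
    · exact hne g C hC hCA hg

/-- Case of an element of odd order with exactly two fixed points. -/
theorem not_isNilMinCover_rank_one_odd [Finite G] [Finite Ω] (u : Ω → G)
    (hu : ∀ ω α : Ω, u ω • α = α ↔ α = ω) {a b : Ω} (hab : a ≠ b)
    (hswap : ∀ g : G, g • a = b → g • b = a → g * g = 1)
    (y : G) (hy : ∀ α : Ω, y • α = α ↔ α = a ∨ α = b) (hy1 : y ≠ 1) (hodd : Odd (orderOf y))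
    (𝓐 : Finset (Subgroup G)) : ¬ IsNilMinCover 𝓐 := by
  haveI : Nontrivial Ω := ⟨a, b, hab⟩
  have hya : y • a = a := (hy a).2 (Or.inl rfl)
  have hyb : y • b = b := (hy b).2 (Or.inr rfl)
  have key : ∀ A : Subgroup G, Group.IsNilpotent A → y ∈ A →
      A ≤ stabilizer G a ⊓ stabilizer G b := by
    intro A hA hyA
    apply Cfsg.Agent.S3893.le_of_nil hA
    intro g hgA hg
    have h1 := (Subgroup.mem_normalizer_iff.1 (inv_mem hg) y).1
      (Subgroup.mem_inf.2 ⟨hyA, Subgroup.mem_inf.2 ⟨hya, hyb⟩⟩)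
    obtain ⟨h2, h3⟩ := Subgroup.mem_inf.1 (Subgroup.mem_inf.1 h1).2
    rw [mem_stabilizer_iff, inv_inv, mul_smul, mul_smul, inv_smul_eq_iff] at h2 h3
    have hne : g • a ≠ g • b := fun h => hab (smul_left_cancel g h)
    rcases (hy _).1 h2 with h4 | h4 <;> rcases (hy _).1 h3 with h5 | h5
    · exact absurd (h4.trans h5.symm) hne
    · exact Subgroup.mem_inf.2 ⟨h4, h5⟩
    · exfalso
      have h6 := hswap g h4 h5
      have h7 := hswap (g * y) (by rw [mul_smul, hya, h4]) (by rw [mul_smul, hyb, h5])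
      have h8 := Cfsg.Agent.S3893.comm_of_nil hA hgA hyA h6 hodd
      have h9 : y ^ 2 = 1 := by
        calc y ^ 2 = (g * g) * (y * y) := by rw [h6, one_mul, pow_two]
          _ = g * (g * y) * y := by simp only [mul_assoc]
          _ = g * (y * g) * y := by rw [h8]
          _ = g * y * (g * y) := by simp only [mul_assoc]
          _ = 1 := h7
      have h10 := Nat.eq_one_of_dvd_coprimes hodd.coprime_two_right dvd_rfl
        (orderOf_dvd_of_pow_eq_one h9)
      exact hy1 (orderOf_eq_one_iff.1 h10)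
    · exact absurd (h4.trans h5.symm) hne
  refine not_isNilMinCover_of_stabilizers u hu y ?_ ?_ 𝓐
  · intro A hA hyA ω hω
    obtain ⟨h1, h2⟩ := Subgroup.mem_inf.1 (key A hA hyA hω)
    exact hab (((hu ω a).1 h1).trans ((hu ω b).1 h2).symm)
  · intro A hA hyA g hg
    exact Or.inl ⟨a, (Subgroup.mem_inf.1 (key A hA hyA hg)).1⟩

/-- Case of a two-point stabilizer which is a `2`-group. -/
theorem not_isNilMinCover_rank_one_two [Finite G] [Finite Ω] (u : Ω → G)
    (hu : ∀ ω α : Ω, u ω • α = α ↔ α = ω) (huo : ∀ ω, Odd (orderOf (u ω))) {a b : Ω} (hab : a ≠ b)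
    (hswap : ∀ g : G, g • a = b → g • b = a → g * g = 1) {k : ℕ}
    (hfix : ∀ g : G, g • a = a → g • b = b → g ^ 2 ^ k = 1)
    (y : G) (hy : ∀ α : Ω, y • α = α ↔ α = a ∨ α = b)
    (hfree : ∀ g : G, (∀ α : Ω, g • α ≠ α) → ∃ w : G, w ≠ 1 ∧ Odd (orderOf w) ∧ g * w = w * g)
    (𝓐 : Finset (Subgroup G)) : ¬ IsNilMinCover 𝓐 := by
  haveI : Nontrivial Ω := ⟨a, b, hab⟩
  have hya : y • a = a := (hy a).2 (Or.inl rfl)
  have hyb : y • b = b := (hy b).2 (Or.inr rfl)
  have hone : ∀ (w : G) (j : ℕ), Odd (orderOf w) → w ^ 2 ^ j = 1 → w = 1 := by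
    intro w j hw h
    exact orderOf_eq_one_iff.1 (Nat.eq_one_of_dvd_coprimes (hw.coprime_two_right.pow_right j)
      dvd_rfl (orderOf_dvd_of_pow_eq_one h))
  have key : ∀ A : Subgroup G, Group.IsNilpotent A → y ∈ A → ∀ w ∈ A, Odd (orderOf w) → w = 1 := by
    intro A hA hyA w hw hodd
    have h : (orderOf (⟨w, hw⟩ : A)).Coprime (orderOf (⟨y, hyA⟩ : A)) := by
      rw [Subgroup.orderOf_mk, Subgroup.orderOf_mk]
      exact Nat.Coprime.coprime_dvd_right (orderOf_dvd_of_pow_eq_one (hfix y hya hyb))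
        (hodd.coprime_two_right.pow_right k)
    have hc : w * y = y * w :=
      congrArg Subtype.val (CfsgLib.Core.commute_of_coprime_orderOf_of_isNilpotent h).eq
    have h2 : y • w • a = w • a := by rw [← mul_smul, ← hc, mul_smul, hya]
    have h3 : y • w • b = w • b := by rw [← mul_smul, ← hc, mul_smul, hyb]
    have hne : w • a ≠ w • b := fun h => hab (smul_left_cancel w h)
    rcases (hy _).1 h2 with h4 | h4 <;> rcases (hy _).1 h3 with h5 | h5
    · exact absurd (h4.trans h5.symm) hne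
    · exact hone w k hodd (hfix w h4 h5)
    · exact hone w 1 hodd (by rw [pow_one, pow_two]; exact hswap w h4 h5)
    · exact absurd (h4.trans h5.symm) hne
  refine not_isNilMinCover_of_stabilizers u hu y ?_ ?_ 𝓐
  · intro A hA hyA ω hω
    have h1 := key A hA hyA _ hω (huo ω)
    exact hab (((hu ω a).1 (by rw [h1, one_smul])).trans ((hu ω b).1 (by rw [h1, one_smul])).symm)
  · intro A hA hyA g hg
    by_cases hg1 : ∃ ω : Ω, g • ω = ω
    · exact Or.inl hg1
    right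
    push Not at hg1
    obtain ⟨w, hw1, hwo, hc⟩ := hfree g hg1
    refine ⟨g * w, ?_, fun h => hw1 (key A hA hyA w (by simpa using A.mul_mem (A.inv_mem hg) h) hwo)⟩
    have h1 : g ∈ Subgroup.zpowers (g ^ orderOf w) := by
      rw [mem_zpowers_pow_iff]
      by_contra hn
      obtain ⟨r, hr, hrd⟩ := Nat.exists_prime_and_dvd hn
      have h2 : r ∣ orderOf w := hrd.trans (Nat.gcd_dvd_left _ _)
      have h3 : r ∣ orderOf g := hrd.trans (Nat.gcd_dvd_right _ _)
      have h4 : orderOf (g ^ (orderOf g / r)) = r := orderOf_pow_orderOf_div (orderOf_pos g).ne' h3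
      have h5 := key A hA hyA _ (A.pow_mem hg (orderOf g / r)) (by rw [h4]; exact hwo.of_dvd_nat h2)
      rw [h5, orderOf_one] at h4
      exact hr.one_lt.ne h4
    have h2 : (g * w) ^ orderOf w = g ^ orderOf w := by
      rw [Commute.mul_pow hc, pow_orderOf_eq_one, mul_one]
    rw [← h2] at h1
    exact Subgroup.zpowers_le.2 (Subgroup.pow_mem _ (Subgroup.mem_zpowers _) _) h1

theorem pow_eq_one_mul_of_nil [Finite G] {A : Subgroup G} (hA : Group.IsNilpotent A) {p : ℕ}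
    [Fact p.Prime] {x y : G} (hx : x ∈ A) (hy : y ∈ A) {k l : ℕ} (h1 : x ^ p ^ k = 1)
    (h2 : y ^ p ^ l = 1) : ∃ m, (x * y) ^ p ^ m = 1 := by
  have hz : ∀ (z : A) (j : ℕ), z ^ p ^ j = 1 → z ∈ Cfsg.pCore p A := by
    intro z j hj
    refine CfsgLib.Core.le_pCore_of_isNilpotent (H := Subgroup.zpowers z) ?_ (Subgroup.mem_zpowers z)
    rintro ⟨_, m, rfl⟩
    refine ⟨j, Subtype.ext ?_⟩
    show (z ^ m) ^ p ^ j = 1
    rw [← zpow_natCast, ← zpow_mul, mul_comm, zpow_mul, zpow_natCast, hj, one_zpow]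
  obtain ⟨m, hm⟩ := CfsgLib.Core.isPGroup_pCore p A
    ⟨_, mul_mem (hz ⟨x, hx⟩ k (Subtype.ext h1)) (hz ⟨y, hy⟩ l (Subtype.ext h2))⟩
  exact ⟨m, congrArg (fun t : Cfsg.pCore p A => ((t : A) : G)) hm⟩

end CfsgLib.Fgs
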